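import Cfsg.Agent.Lib.OddOrder.TameW
import Cfsg.Agent.Lib.OddOrder.Ship1436
import Cfsg.Agent.Lib.OddOrder.ShipTyW
import Cfsg.Agent.S1371
import Cfsg.Agent.S1375
import Cfsg.Agent.S1378
import Cfsg.Agent.S1438

/-!
# The Dade hypothesis for `A₁(M)`, `A(M)` and `A₀(M)`, unconditional (S1537)

This follows `Dade0`, with the tame embedding of `TameW`, which does not need the type classification.
-/

set_option autoImplicit false
set_option linter.unusedSectionVars false
set_option linter.unusedSimpArgs false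
set_option linter.style.haveILetI false
set_option linter.unusedVariables false

open scoped commutatorElement
open scoped Pointwise

universe u

namespace Cfsg.Agent.Lib.OddOrder.Dade2

open Cfsg Cfsg.Agent.Lib.Core.Basic Cfsg.Agent.Lib.Coprime.Action
open Cfsg.Agent.Lib.OddOrder.Transitivity Cfsg.Agent.Lib.OddOrder.Sigma
open Cfsg.Agent.Lib.OddOrder.Exc3
open Cfsg.Agent.Lib.OddOrder.PartStmts Cfsg.Agent.Lib.OddOrder.Part0 Cfsg.Agent.Lib.OddOrder.Part2
open Cfsg.Agent.Lib.OddOrder.TypeP Cfsg.Agent.Lib.OddOrder.Compl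
open Cfsg.Agent.Lib.OddOrder.TypesBasic Cfsg.Agent.Lib.OddOrder.TypesStmts Cfsg.Agent.Lib.OddOrder.TypesData
open Cfsg.Agent.Lib.OddOrder.TypesTwo Cfsg.Agent.Lib.OddOrder.TypesOneB
open Cfsg.Agent.Lib.OddOrder.TypesOne Cfsg.Agent.Lib.OddOrder.TypesSets
open Cfsg.Agent.Lib.OddOrder.TameW
open Cfsg.Agent.Lib.OddOrder.Dade0 (conj_ne_one_aux conj_comm_aux typeA_subset_typeA0 one_not_mem_typeA one_not_mem_typeA0
  fittingHallOf_le typeA_subset typeA0_subset)

variable {G : Type u} [Group G] [Finite G]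

/-- The inputs, unconditional. -/
theorem inT (hG : IsMinSimpleOddOrder G) : InT G where
  w := ShipTyW.inW hG
  s1371 := fun M hM K U hKU hK1 => Cfsg.Agent.S1371.result hG M hM K U hKU hK1
  s1375 := fun M hM x hx hx1 hxM => Cfsg.Agent.S1375.result hG M hM x hx hx1 hxM
  s1378 := Cfsg.Agent.S1378.result hG
  s1432 := Ship1436.stmt1432 hG
  s1436 := Ship1436.stmt1436 hG
  s1438 := fun M hM H hH hH1 hHall => Cfsg.Agent.S1438.result hG M hM H hH hH1 hHall

section

variable (J : InT G) (hG : IsMinSimpleOddOrder G) {M : Subgroup G} (hM : IsCoatom M)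

include J hG hM in
theorem typeA1_eq : typeA1 M = (sigmaCore M : Set G) \ {1} := by
  unfold typeA1
  rw [typeCore_eqW J hG hM]

include J hG hM in
theorem typeA1_subset : typeA1 M ⊆ typeA M := by
  classical
  have I := J.w.data
  have h1355 := I.s1355 M hM
  obtain ⟨K, U, hKU⟩ := TyW.exists_decompositionW J.w hM
  rw [typeA1_eq J hG hM]
  rintro x ⟨hx, hx1⟩
  have hx1' : x ≠ 1 := hx1
  unfold typeA
  split_ifs with hI
  · have hK := (TyW.s1380_mpW J.w hG hM hKU hI).1
    have hF := fittingHall_eq_of_K_botW J hM hKU hK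
    exact ⟨sigmaCore_le M hx, hx1', x, hF ▸ hx, hx1', rfl⟩
  · rw [typeCore_eqW J hG hM]
    exact ⟨h1355.2.2.1 hx, hx1', x, hx, hx1', rfl⟩

include J hG hM in
theorem typeA_conj {m a : G} (hm : m ∈ M) (ha : a ∈ typeA M) : m * a * m⁻¹ ∈ typeA M := by
  classical
  have h : m * a * m⁻¹ ∈ typeA M := by
    revert ha
    unfold typeA
    split_ifs
    · rintro ⟨h, h1, x, hx, hx1, hc⟩
      refine ⟨M.mul_mem (M.mul_mem hm h) (M.inv_mem hm), conj_ne_one_aux h1, m * x * m⁻¹, ?_, conj_ne_one_aux hx1, conj_comm_aux hc⟩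
      exact (Subgroup.mem_normalizer_iff.mp (le_normalizer_fittingHallOf M hm) x).mp hx
    · rintro ⟨h, h1, x, hx, hx1, hc⟩
      refine ⟨Cfsg.Agent.Lib.OddOrder.TyII.conj_mem_commutator hm h, conj_ne_one_aux h1, m * x * m⁻¹, ?_, conj_ne_one_aux hx1, conj_comm_aux hc⟩
      rw [typeCore_eqW J hG hM] at hx ⊢
      exact (Subgroup.mem_normalizer_iff.mp (le_normalizer_sigmaCore M hm) x).mp hx
  exact h

include J hG hM in
theorem typeA1_conj {m a : G} (hm : m ∈ M) (ha : a ∈ typeA1 M) : m * a * m⁻¹ ∈ typeA1 M := by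
  rw [typeA1_eq J hG hM] at ha ⊢
  exact ⟨(Subgroup.mem_normalizer_iff.mp (le_normalizer_sigmaCore M hm) a).mp ha.1, conj_ne_one_aux ha.2⟩

include J hG hM in
theorem typeA0_conj {m a : G} (hm : m ∈ M) (ha : a ∈ typeA0 M) : m * a * m⁻¹ ∈ typeA0 M := by
  rcases ha with h | ⟨hnI, W₁, V, W₂, hP, m', hm', w, hw, hw1, hw2, rfl⟩
  · exact Or.inl (typeA_conj J hG hM hm h)
  · refine Or.inr ⟨hnI, W₁, V, W₂, hP, m * m', M.mul_mem hm hm', w, hw, hw1, hw2, ?_⟩
    group

include J hG hM in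
/-- The value of `R(x)` on `A₀(M)`. -/
theorem supportR_cases {x : G} (hx : x ∈ typeA0 M) :
    (Subgroup.centralizer ({x} : Set G) ≤ M ∧ supportR M x = ⊥) ∨
      (¬ Subgroup.centralizer ({x} : Set G) ≤ M ∧ ∃ L : Subgroup G, IsCoatom L ∧ Subgroup.centralizer ({x} : Set G) ≤ L ∧
        supportR M x = fittingHallOf L ⊓ Subgroup.centralizer ({x} : Set G)) := by
  classical
  by_cases hC : Subgroup.centralizer ({x} : Set G) ≤ M
  · exact Or.inl ⟨hC, Cfsg.Agent.Lib.OddOrder.Part4.supportR_of_le hC⟩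
  · refine Or.inr ⟨hC, ?_⟩
    obtain ⟨K, U, hKU⟩ := TyW.exists_decompositionW J.w hM
    have hu := ((tame J hG hM hKU (X := typeA0 M) (fun y hy => typeA0_casesW J hG hM hKU hy)).2.1 x hx hC).2
    have hd : ¬ Subgroup.centralizer ({x} : Set G) ≤ M ∧
        ∃! L : Subgroup G, IsCoatom L ∧ Subgroup.centralizer ({x} : Set G) ≤ L := ⟨hC, hu⟩
    have hs := Classical.choose_spec hd.2.exists
    refine ⟨Classical.choose hd.2.exists, hs.1, hs.2, ?_⟩
    unfold supportR
    rw [dif_pos hd]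

include J hG hM in
/-- The Dade hypothesis for a set between `A₁(M)` and `A₀(M)`. -/
theorem dade_of_subsets {A : Set G} (h1 : typeA1 M ⊆ A) (h0 : A ⊆ typeA0 M)
    (hconj : ∀ m ∈ M, ∀ a ∈ A, m * a * m⁻¹ ∈ A) :
    Subgroup.normalizer A = M ∧ DadeHypothesis A M (supportR M) := by
  classical
  obtain ⟨K, U, hKU⟩ := TyW.exists_decompositionW J.w hM
  obtain ⟨hf, hd, hc⟩ := tame J hG hM hKU (X := typeA0 M) (fun y hy => typeA0_casesW J hG hM hKU hy)
  have hAM : A ⊆ (M : Set G) := h0.trans typeA0_subset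
  have hne : sigmaCore M ≠ ⊥ := by
    intro h
    have h1355 := J.w.data.s1355 M hM
    have h2 := h1355.2.1
    rw [h, le_bot_iff] at h2
    exact h1355.1 h2
  refine ⟨?_, ?_⟩
  · obtain ⟨s, hs, hs1⟩ := Subgroup.bot_or_exists_ne_one (sigmaCore M) |>.resolve_left hne
    have hsA : s ∈ A := h1 (by rw [typeA1_eq J hG hM]; exact ⟨hs, hs1⟩)
    exact Cfsg.Agent.Lib.OddOrder.TyII.normalizer_eq_of_subset_coatom hG hM hAM
      (Cfsg.Agent.Lib.OddOrder.TyII.le_normalizer_of_conj hconj) hsA hs1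
  · refine ⟨?_, hAM, hconj, ?_, ?_, ?_, ?_, ?_, ?_⟩
    · exact fun h => one_not_mem_typeA0 (h0 h)
    · intro a ha g hg
      exact hf a (h0 ha) g (h0 hg)
    · intro a ha
      rcases supportR_cases J hG hM (h0 ha) with ⟨-, h⟩ | ⟨-, L, -, -, h⟩
      · rw [h]; exact bot_le
      · rw [h]; exact inf_le_right
    · intro a ha c hc' u hu
      rcases supportR_cases J hG hM (h0 ha) with ⟨-, h⟩ | ⟨hC, L, hL, hCL, h⟩
      · rw [h, Subgroup.mem_bot] at hu ⊢
        rw [hu]; group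
      · rw [h] at hu ⊢
        obtain ⟨-, hn, -⟩ := hc a (h0 ha) hC L hL hCL
        exact (Subgroup.mem_normalizer_iff.mp (hn hc') u).mp hu
    · intro a ha
      rcases supportR_cases J hG hM (h0 ha) with ⟨-, h⟩ | ⟨hC, L, hL, hCL, h⟩
      · rw [h, bot_inf_eq]
      · rw [h]
        obtain ⟨-, -, hcc, -⟩ := hc a (h0 ha) hC L hL hCL
        exact hcc.2.2.1
    · intro a ha
      rcases supportR_cases J hG hM (h0 ha) with ⟨hCM, h⟩ | ⟨hC, L, hL, hCL, h⟩
      · rw [h, bot_sup_eq]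
        exact inf_eq_right.mpr hCM
      · rw [h]
        obtain ⟨-, -, hcc, -⟩ := hc a (h0 ha) hC L hL hCL
        apply le_antisymm (sup_le hcc.1 hcc.2.1)
        intro c hc'
        obtain ⟨f, hf', e, he, rfl⟩ := hcc.2.2.2 c hc'
        exact Subgroup.mul_mem _ (Subgroup.mem_sup_left hf') (Subgroup.mem_sup_right he)
    · intro a ha b hb
      rcases supportR_cases J hG hM (h0 ha) with ⟨-, h⟩ | ⟨hC, L, hL, hCL, h⟩
      · rw [h, Subgroup.card_bot]
        exact Nat.coprime_one_left _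
      · rw [h]
        obtain ⟨-, -, -, hcop, -⟩ := hc a (h0 ha) hC L hL hCL
        exact Nat.Coprime.coprime_dvd_left (Subgroup.card_dvd_of_le inf_le_left) (hcop b (h0 hb))

include J hG in
/-- **S1537** (conditional). -/
theorem s1537 (M : Subgroup G) (hM : IsCoatom M) (A : Set G)
    (hA : A = typeA1 M ∨ A = typeA M ∨ A = typeA0 M) :
    Subgroup.normalizer A = M ∧ DadeHypothesis A M (supportR M) := by
  rcases hA with rfl | rfl | rfl
  · exact dade_of_subsets J hG hM subset_rfl ((typeA1_subset J hG hM).trans typeA_subset_typeA0)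
      fun m hm a ha => typeA1_conj J hG hM hm ha
  · exact dade_of_subsets J hG hM (typeA1_subset J hG hM) typeA_subset_typeA0
      fun m hm a ha => typeA_conj J hG hM hm ha
  · exact dade_of_subsets J hG hM ((typeA1_subset J hG hM).trans typeA_subset_typeA0) subset_rfl
      fun m hm a ha => typeA0_conj J hG hM hm ha

end

end Cfsg.Agent.Lib.OddOrder.Dade2
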