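import Cfsg.Agent.Lib.OddOrder.TyA
import Cfsg.Agent.Lib.OddOrder.Ty1
import Cfsg.Agent.Lib.OddOrder.UniqFitB

/-!
# The sets `A₁(M)`, `A(M)`, `A₀(M)` for a maximal subgroup of Type II (S1538)
-/

set_option autoImplicit false
set_option linter.unusedSectionVars false
set_option linter.unusedSimpArgs false
set_option linter.style.haveILetI false
set_option linter.unusedVariables false

open scoped commutatorElement
open scoped Pointwise

universe u

namespace Cfsg.Agent.Lib.OddOrder.TyII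

open Cfsg Cfsg.Agent.Lib.Core.Basic Cfsg.Agent.Lib.Coprime.Action
open Cfsg.Agent.Lib.OddOrder.Transitivity Cfsg.Agent.Lib.OddOrder.Sigma
open Cfsg.Agent.Lib.OddOrder.PartStmts Cfsg.Agent.Lib.OddOrder.Part0
open Cfsg.Agent.Lib.OddOrder.TypesBasic Cfsg.Agent.Lib.OddOrder.TypesStmts Cfsg.Agent.Lib.OddOrder.TypesData
open Cfsg.Agent.Lib.OddOrder.TypesTwo Cfsg.Agent.Lib.OddOrder.TypesOneB
open Cfsg.Agent.Lib.OddOrder.Exc3 Cfsg.Agent.Lib.OddOrder.Exc12 Cfsg.Agent.Lib.OddOrder.Compl Cfsg.Agent.Lib.OddOrder.TypeP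
open Cfsg.Agent.Lib.OddOrder.TypesOne Cfsg.Agent.Lib.OddOrder.TypesMain Cfsg.Agent.Lib.OddOrder.TyA

variable {G : Type u} [Group G] [Finite G]

/-- The normalizer of a subset of `M` containing a non-identity element and normalized by `M` is `M`. -/
theorem normalizer_eq_of_subset_coatom (hG : IsMinSimpleOddOrder G) {M : Subgroup G} (hM : IsCoatom M) {S : Set G}
    (hSM : S ⊆ M) (hN : M ≤ Subgroup.normalizer S) {s : G} (hs : s ∈ S) (hs1 : s ≠ 1) :
    Subgroup.normalizer S = M := by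
  refine (hM.le_iff.mp hN).resolve_left ?_
  intro htop
  have hcl : Subgroup.normalClosure ({s} : Set G) ≤ M := by
    rw [Subgroup.normalClosure, Subgroup.closure_le]
    intro c hc
    rw [Group.mem_conjugatesOfSet_iff] at hc
    obtain ⟨a, ha, hac⟩ := hc
    rw [Set.mem_singleton_iff] at ha
    subst ha
    obtain ⟨t, rfl⟩ := isConj_iff.mp hac
    have ht : t ∈ Subgroup.normalizer S := htop ▸ Subgroup.mem_top t
    exact hSM ((Subgroup.mem_set_normalizer_iff.mp ht a).mp hs)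
  rcases hG.2.1.eq_bot_or_eq_top_of_normal (Subgroup.normalClosure ({s} : Set G)) inferInstance with h | h
  · have := Subgroup.subset_normalClosure (Set.mem_singleton s)
    rw [h] at this
    exact hs1 (Subgroup.mem_bot.mp this)
  · exact hM.1 (top_le_iff.mp (h ▸ hcl))

theorem le_normalizer_of_conj {M : Subgroup G} {S : Set G} (hc : ∀ m ∈ M, ∀ a ∈ S, m * a * m⁻¹ ∈ S) :
    M ≤ Subgroup.normalizer S := by
  exact Subgroup.le_set_normalizer_iff.mpr hc

theorem conj_mem_commutator {M : Subgroup G} {m a : G} (hm : m ∈ M) (ha : a ∈ ⁅M, M⁆) : m * a * m⁻¹ ∈ ⁅M, M⁆ := by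
  have h1 : Subgroup.map (MulAut.conj m).toMonoidHom ⁅M, M⁆ = ⁅M, M⁆ := by
    rw [Subgroup.map_commutator]
    have h2 : M.map (MulAut.conj m).toMonoidHom = M :=
      Cfsg.Agent.Lib.OddOrder.Exc3.conjSub_eq_of_mem_normalizer' (Subgroup.le_normalizer hm)
    rw [h2]
  rw [← h1]
  exact ⟨a, ha, rfl⟩

section

variable (J : In1390 G) (hG : IsMinSimpleOddOrder G) {M : Subgroup G} (hM : IsCoatom M) (hII : IsOfTypeII M)

include J hG hM hII in
/-- **S1538** (conditional). -/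
theorem s1538 :
    (IsTISubset (typeA0 M) ∧ Subgroup.normalizer (typeA0 M) = M) ∧
    (IsTISubset (typeA M) ∧ Subgroup.normalizer (typeA M) = M) ∧
    (IsTISubset (typeA1 M) ∧ Subgroup.normalizer (typeA1 M) = M) := by
  classical
  have I := J.main.one.data
  obtain ⟨K, Us, hKU⟩ := exists_decomposition J.main hM
  obtain ⟨hK1, hUs⟩ := s1381_mp I hM hKU hII
  have hF : fittingHallOf M = sigmaCore M := by
    by_contra hne
    exact hUs (I.s1357 M hM K Us hKU hne).1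
  have hT : Us ⊔ sigmaCore M = ⁅M, M⁆ := (I.s1365 M hM K Us hKU hK1).1.symm
  have hnot : ¬ (IsOfTypeIII M ∨ IsOfTypeIV M) := fun h => hUs (s1382_mp I hM hKU hG J.main.s1363 h).2.1
  have hnI : ¬ IsOfTypeI M := fun h' => hK1 (s1380_mp J.main.one hG hM hKU h').1
  have hσM : sigmaCore M ≤ M := sigmaCore_le M
  have hσ' : sigmaCore M ≤ ⁅M, M⁆ := hT ▸ le_sup_right
  have h'M : ⁅M, M⁆ ≤ M := Subgroup.commutator_le_self M
  -- the three sets
  have hA1 : typeA1 M = (sigmaCore M : Set G) \ {1} := by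
    unfold typeA1 typeCore
    rw [if_neg hnot, hF]
  have hA : typeA M = {a | a ∈ ⁅M, M⁆ ∧ a ≠ 1 ∧ ∃ x ∈ sigmaCore M, x ≠ 1 ∧ a * x = x * a} := by
    unfold typeA typeCore
    rw [if_neg hnI, if_neg hnot, hF]
  obtain ⟨Z, hZ⟩ : ∃ Z : Set G, Z = {v | ∃ W₁ U W₂ : Subgroup G, IsTypePWith M W₁ U W₂ ∧
      ∃ m ∈ M, ∃ w ∈ W₁ ⊔ W₂, w ∉ W₁ ∧ w ∉ W₂ ∧ v = m * w * m⁻¹} := ⟨_, rfl⟩
  have hA0 : typeA0 M = typeA M ∪ Z := by
    unfold typeA0
    rw [hZ]
    ext v
    simp only [Set.mem_union, Set.mem_setOf_eq]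
    constructor
    · rintro (h | ⟨-, h⟩)
      · exact Or.inl h
      · exact Or.inr h
    · rintro (h | h)
      · exact Or.inl h
      · exact Or.inr ⟨hnI, h⟩
  -- `M_σ` is nontrivial
  have hσ1 : sigmaCore M ≠ ⊥ := hF ▸ (I.s1355 M hM).1
  obtain ⟨x₀, hx₀, hx₀1⟩ : ∃ x ∈ sigmaCore M, x ≠ 1 := by
    obtain ⟨x, hx⟩ := Subgroup.ne_bot_iff_exists_ne_one.mp hσ1
    exact ⟨x, x.2, fun h => hx (Subtype.ext h)⟩
  -- TI for `M_σ`
  have hTI : ∀ g : G, g ∉ M → ∀ x ∈ sigmaCore M, g * x * g⁻¹ ∈ sigmaCore M → x = 1 := by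
    obtain ⟨W₁, V, W₂, -, -, -, hti, -⟩ := hII
    have hFF : sigmaCore M ≤ fittingOf M := hF ▸ fittingHallOf_le_fittingOf I hM hKU
    have hNF : Subgroup.normalizer (fittingOf M : Set G) = M :=
      Cfsg.Agent.Lib.OddOrder.UniqFitB.normalizer_fittingOf_eq hG hM (fun h => hσ1 (le_bot_iff.mp (h ▸ hFF)))
    intro g hg x hx hgx
    rw [← hNF] at hg
    exact hti g hg x (hFF hx) (hFF hgx)
  -- `σ`-elements
  have hσel : ∀ g x : G, x ∈ sigmaCore M → g * x * g⁻¹ ∈ M → g * x * g⁻¹ ∈ sigmaCore M := by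
    intro g x hx hgx
    have hY : Subgroup.zpowers (g * x * g⁻¹) ≤ sigmaCore M := by
      apply Cfsg.Agent.Lib.OddOrder.Ty1.le_sigmaCore_of_primes hG hM (Subgroup.zpowers_le.mpr hgx)
      intro q hq hd
      have h1 : Nat.card (Subgroup.zpowers (g * x * g⁻¹)) = Nat.card (Subgroup.zpowers x) := by
        rw [Nat.card_zpowers, Nat.card_zpowers]
        exact orderOf_conj g x
      rw [h1] at hd
      exact (I.s1350 M hM).1.2.1 q hq (hd.trans (Subgroup.card_dvd_of_le (Subgroup.zpowers_le.mpr hx)))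
    exact hY (Subgroup.mem_zpowers _)
  -- the elements of `A₀`
  have hZel : ∀ b ∈ Z, b ≠ 1 ∧ b ∈ M ∧ (∃ x ∈ sigmaCore M, x ≠ 1 ∧ b * x = x * b) ∧
      Subgroup.centralizer ({b} : Set G) ≤ M := by
    intro b hb
    rw [hZ] at hb
    obtain ⟨W₁, V, W₂, hP, m, hm, w, hw, hw1, hw2, rfl⟩ := hb
    have hW1M : W₁ ≤ M := hP.W₁_compl.2.1
    have hW2σ : W₂ ≤ sigmaCore M := fun y hy => hF ▸ (hP.W₂_le hy).1
    have hW2M : W₂ ≤ M := hW2σ.trans hσM
    have hcomm := hP.selfNormalizing.2.2.2.1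
    have hsup : W₁ ⊔ W₂ ≤ M := sup_le hW1M hW2M
    have hN := hP.selfNormalizing.2.2.2.2.2 {w} (by
      intro y hy
      rw [Set.mem_singleton_iff] at hy
      subst hy
      refine ⟨hw, ?_⟩
      rintro (h | h)
      · exact hw1 h
      · exact hw2 h) (Set.singleton_nonempty w)
    have hCw : Subgroup.centralizer ({w} : Set G) ≤ M := by
      intro c hc
      apply hsup
      rw [← hN, Subgroup.mem_set_normalizer_iff]
      intro h
      simp only [Set.mem_singleton_iff]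
      have hc' : c * w = w * c := (Subgroup.mem_centralizer_iff.mp hc w rfl).symm
      have e : c * w * c⁻¹ = w := by rw [hc']; group
      constructor
      · rintro rfl; exact e
      · intro h1
        have : h = c⁻¹ * (c * h * c⁻¹) * c := by group
        rw [this, h1, mul_assoc, ← hc', ← mul_assoc, inv_mul_cancel, one_mul]
    have hw1' : w ≠ 1 := fun h => hw1 (h ▸ W₁.one_mem)
    obtain ⟨w₁, hw₁, w₂, hw₂, hww⟩ : ∃ w₁ ∈ W₁, ∃ w₂ ∈ W₂, w = w₁ * w₂ := by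
      have hle : W₂ ≤ Subgroup.normalizer (W₁ : Set G) := by
        rw [Subgroup.le_normalizer_iff]
        intro y hy t ht
        rw [← hcomm t ht y hy]
        simpa using ht
      have h := Subgroup.coe_mul_of_right_le_normalizer_left W₁ W₂ hle
      have hc' : w ∈ ((W₁ ⊔ W₂ : Subgroup G) : Set G) := hw
      rw [h] at hc'
      obtain ⟨a, ha, b, hb, rfl⟩ := hc'
      exact ⟨a, ha, b, hb, rfl⟩
    have hw₂1 : w₂ ≠ 1 := by
      rintro rfl
      rw [mul_one] at hww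
      exact hw1 (hww ▸ hw₁)
    have hw₂c : w * w₂ = w₂ * w := by
      rw [hww, mul_assoc, ← mul_assoc w₂ w₁ w₂, ← hcomm w₁ hw₁ w₂ hw₂, mul_assoc]
    refine ⟨?_, M.mul_mem (M.mul_mem hm (hsup hw)) (M.inv_mem hm), ⟨m * w₂ * m⁻¹, ?_, ?_, ?_⟩, ?_⟩
    · intro h
      apply hw1'
      have : w = m⁻¹ * (m * w * m⁻¹) * m := by group
      rw [this, h]; group
    · exact (Subgroup.mem_normalizer_iff.mp (le_normalizer_sigmaCore M hm) _).mp (hW2σ hw₂)
    · intro h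
      apply hw₂1
      have : w₂ = m⁻¹ * (m * w₂ * m⁻¹) * m := by group
      rw [this, h]; group
    · have e1 : m * w * m⁻¹ * (m * w₂ * m⁻¹) = m * (w * w₂) * m⁻¹ := by group
      have e2 : m * w₂ * m⁻¹ * (m * w * m⁻¹) = m * (w₂ * w) * m⁻¹ := by group
      rw [e1, e2, hw₂c]
    · intro c hc
      have h1 : m⁻¹ * c * m ∈ Subgroup.centralizer ({w} : Set G) := by
        rw [Subgroup.mem_centralizer_iff]
        intro t ht
        rw [Set.mem_singleton_iff] at ht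
        subst ht
        have h2 := Subgroup.mem_centralizer_iff.mp hc (m * t * m⁻¹) rfl
        have e : m * t * m⁻¹ * c = c * (m * t * m⁻¹) := h2
        calc t * (m⁻¹ * c * m) = m⁻¹ * (m * t * m⁻¹ * c) * m := by group
          _ = m⁻¹ * (c * (m * t * m⁻¹)) * m := by rw [e]
          _ = m⁻¹ * c * m * t := by group
      have h3 := hCw h1
      have : c = m * (m⁻¹ * c * m) * m⁻¹ := by group
      rw [this]
      exact M.mul_mem (M.mul_mem hm h3) (M.inv_mem hm)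
  have hAel : ∀ a ∈ typeA M, a ≠ 1 ∧ a ∈ M ∧ (∃ x ∈ sigmaCore M, x ≠ 1 ∧ a * x = x * a) := by
    intro a ha
    rw [hA] at ha
    obtain ⟨h1, h2, h3⟩ := ha
    exact ⟨h2, h'M h1, h3⟩
  have hA0el : ∀ a ∈ typeA0 M, a ≠ 1 ∧ a ∈ M ∧ (∃ x ∈ sigmaCore M, x ≠ 1 ∧ a * x = x * a) := by
    intro a ha
    rw [hA0] at ha
    rcases ha with h | h
    · exact hAel a h
    · exact ⟨(hZel a h).1, (hZel a h).2.1, (hZel a h).2.2.1⟩
  -- the first key step
  have key1 : ∀ g : G, g ∉ M → ∀ a ∈ typeA0 M, g * a * g⁻¹ ∉ Z := by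
    intro g hg a ha hb
    obtain ⟨-, -, x, hx, hx1, hax⟩ := hA0el a ha
    have h1 := (hZel _ hb).2.2.2
    have h2 : g * x * g⁻¹ ∈ Subgroup.centralizer ({g * a * g⁻¹} : Set G) := by
      rw [Subgroup.mem_centralizer_iff]
      intro t ht
      rw [Set.mem_singleton_iff] at ht
      subst ht
      have e1 : g * a * g⁻¹ * (g * x * g⁻¹) = g * (a * x) * g⁻¹ := by group
      have e2 : g * x * g⁻¹ * (g * a * g⁻¹) = g * (x * a) * g⁻¹ := by group
      rw [e1, e2, hax]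
    exact hx1 (hTI g hg x hx (hσel g x hx (h1 h2)))
  have hS' : IsTISubset ((typeA M) \ (sigmaCore M : Set G)) := by
    have hE : (typeA M) \ (sigmaCore M : Set G) = sigmaA M Us \ (sigmaCore M : Set G) := by
      rw [hA]
      ext a
      constructor
      · rintro ⟨⟨h1, h2, x, hx, hx1, hc⟩, h3⟩
        refine ⟨⟨⟨h'M h1, x, hx, hx1, hc⟩, hT ▸ h1⟩, h3⟩
      · rintro ⟨⟨⟨h1, x, hx, hx1, hc⟩, h2⟩, h3⟩
        refine ⟨⟨hT ▸ h2, ?_, x, hx, hx1, hc⟩, h3⟩
        rintro rfl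
        exact h3 (Subgroup.one_mem _)
    rw [hE]
    exact J.s1362 M hM K Us hKU
  have hconj1 : ∀ m a : G, a ≠ 1 → m * a * m⁻¹ ≠ 1 := by
    intro m a ha h
    apply ha
    have : a = m⁻¹ * (m * a * m⁻¹) * m := by group
    rw [this, h]; group
  have hAconj : ∀ m ∈ M, ∀ a ∈ typeA M, m * a * m⁻¹ ∈ typeA M := by
    intro m hm a ha
    rw [hA] at ha ⊢
    obtain ⟨h1, h2, x, hx, hx1, hc⟩ := ha
    refine ⟨conj_mem_commutator hm h1, hconj1 m a h2, m * x * m⁻¹,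
      (Subgroup.mem_normalizer_iff.mp (le_normalizer_sigmaCore M hm) _).mp hx, hconj1 m x hx1, ?_⟩
    have e1 : m * a * m⁻¹ * (m * x * m⁻¹) = m * (a * x) * m⁻¹ := by group
    have e2 : m * x * m⁻¹ * (m * a * m⁻¹) = m * (x * a) * m⁻¹ := by group
    rw [e1, e2, hc]
  have hA1conj : ∀ m ∈ M, ∀ a ∈ typeA1 M, m * a * m⁻¹ ∈ typeA1 M := by
    intro m hm a ha
    rw [hA1] at ha ⊢
    exact ⟨(Subgroup.mem_normalizer_iff.mp (le_normalizer_sigmaCore M hm) _).mp ha.1, hconj1 m a ha.2⟩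
  have hZconj : ∀ m ∈ M, ∀ a ∈ Z, m * a * m⁻¹ ∈ Z := by
    intro m hm a ha
    rw [hZ] at ha ⊢
    obtain ⟨W₁, V, W₂, hP, n, hn, w, hw, hw1, hw2, rfl⟩ := ha
    refine ⟨W₁, V, W₂, hP, m * n, M.mul_mem hm hn, w, hw, hw1, hw2, by group⟩
  have hA0conj : ∀ m ∈ M, ∀ a ∈ typeA0 M, m * a * m⁻¹ ∈ typeA0 M := by
    intro m hm a ha
    rw [hA0] at ha ⊢
    rcases ha with h | h
    · exact Or.inl (hAconj m hm a h)
    · exact Or.inr (hZconj m hm a h)
  have hA1A : typeA1 M ⊆ typeA M := by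
    intro a ha
    rw [hA1] at ha
    rw [hA]
    exact ⟨hσ' ha.1, ha.2, a, ha.1, ha.2, rfl⟩
  have hAA0 : typeA M ⊆ typeA0 M := by
    rw [hA0]; exact Set.subset_union_left
  have hNS' : Subgroup.normalizer ((typeA M) \ (sigmaCore M : Set G)) = M ∨ (typeA M) \ (sigmaCore M : Set G) = ∅ := by
    by_cases h : (typeA M) \ (sigmaCore M : Set G) = ∅
    · exact Or.inr h
    · left
      obtain ⟨a, ha⟩ := Set.nonempty_iff_ne_empty.mpr h
      refine normalizer_eq_of_subset_coatom hG hM (fun y hy => (hAel y hy.1).2.1) ?_ ha (hAel a ha.1).1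
      apply le_normalizer_of_conj
      intro m hm b hb
      refine ⟨hAconj m hm b hb.1, fun h1 => hb.2 ?_⟩
      have e : b = m⁻¹ * (m * b * m⁻¹) * m⁻¹⁻¹ := by group
      rw [e]
      exact (Subgroup.mem_normalizer_iff.mp (le_normalizer_sigmaCore M (M.inv_mem hm)) _).mp h1
  have key : ∀ g : G, g ∉ M → ∀ a ∈ typeA0 M, g * a * g⁻¹ ∉ typeA0 M := by
    intro g hg a ha hb
    have hb1 : g * a * g⁻¹ ∉ Z := key1 g hg a ha
    have hbA : g * a * g⁻¹ ∈ typeA M := by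
      rw [hA0] at hb
      exact hb.resolve_right hb1
    have hginv : g⁻¹ ∉ M := fun h => hg (by simpa using M.inv_mem h)
    have ha1 : a ∉ Z := by
      intro h
      have := key1 g⁻¹ hginv (g * a * g⁻¹) (hAA0 hbA)
      have e : g⁻¹ * (g * a * g⁻¹) * g⁻¹⁻¹ = a := by group
      rw [e] at this
      exact this h
    have haA : a ∈ typeA M := by
      rw [hA0] at ha
      exact ha.resolve_right ha1
    obtain ⟨ha11, haM, -⟩ := hAel a haA
    obtain ⟨hb11, hbM, -⟩ := hAel _ hbA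
    by_cases haσ : a ∈ sigmaCore M
    · exact ha11 (hTI g hg a haσ (hσel g a haσ hbM))
    · have hbσ : g * a * g⁻¹ ∉ sigmaCore M := by
        intro h
        apply haσ
        have := hσel g⁻¹ _ h (by
          have e : g⁻¹ * (g * a * g⁻¹) * g⁻¹⁻¹ = a := by group
          rw [e]; exact haM)
        have e : g⁻¹ * (g * a * g⁻¹) * g⁻¹⁻¹ = a := by group
        rwa [e] at this
      rcases hNS' with h | h
      · exact ha11 (hS' g (by rw [h]; exact hg) a ⟨haA, haσ⟩ ⟨hbA, hbσ⟩)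
      · have : a ∈ (typeA M) \ (sigmaCore M : Set G) := ⟨haA, haσ⟩
        rw [h] at this
        exact this
  have hfin : ∀ S : Set G, S ⊆ typeA0 M → (∀ m ∈ M, ∀ a ∈ S, m * a * m⁻¹ ∈ S) → (∃ s ∈ S, s ≠ 1) →
      IsTISubset S ∧ Subgroup.normalizer S = M := by
    intro S hS hc ⟨s, hs, hs1⟩
    have hN := normalizer_eq_of_subset_coatom hG hM (fun y hy => (hA0el y (hS hy)).2.1) (le_normalizer_of_conj hc) hs hs1
    refine ⟨?_, hN⟩
    intro g hg x hx hgx
    rw [hN] at hg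
    exact absurd (hS hgx) (key g hg x (hS hx))
  have hne : ∃ s ∈ typeA1 M, s ≠ 1 := ⟨x₀, by rw [hA1]; exact ⟨hx₀, hx₀1⟩, hx₀1⟩
  obtain ⟨s, hs, hs1⟩ := hne
  exact ⟨hfin _ subset_rfl hA0conj ⟨s, hAA0 (hA1A hs), hs1⟩, hfin _ hAA0 hAconj ⟨s, hA1A hs, hs1⟩,
    hfin _ (hA1A.trans hAA0) hA1conj ⟨s, hs, hs1⟩⟩

end

end Cfsg.Agent.Lib.OddOrder.TyII
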