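import Cfsg.Agent.Lib.OddOrder.Dade0

/-!
# Supporting maximal subgroups (S1539)
-/

set_option autoImplicit false
set_option linter.unusedSectionVars false
set_option linter.unusedSimpArgs false
set_option linter.style.haveILetI false
set_option linter.unusedVariables false

open scoped commutatorElement
open scoped Pointwise

universe u

namespace Cfsg.Agent.Lib.OddOrder.Dade1

open Cfsg Cfsg.Agent.Lib.Core.Basic Cfsg.Agent.Lib.Coprime.Action
open Cfsg.Agent.Lib.OddOrder.Transitivity Cfsg.Agent.Lib.OddOrder.Sigma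
open Cfsg.Agent.Lib.OddOrder.Exc3
open Cfsg.Agent.Lib.OddOrder.PartStmts Cfsg.Agent.Lib.OddOrder.Part0 Cfsg.Agent.Lib.OddOrder.Part2
open Cfsg.Agent.Lib.OddOrder.TypeP Cfsg.Agent.Lib.OddOrder.Compl
open Cfsg.Agent.Lib.OddOrder.TypesBasic Cfsg.Agent.Lib.OddOrder.TypesStmts Cfsg.Agent.Lib.OddOrder.TypesData
open Cfsg.Agent.Lib.OddOrder.TypesTwo Cfsg.Agent.Lib.OddOrder.TypesOneB
open Cfsg.Agent.Lib.OddOrder.TypesOne Cfsg.Agent.Lib.OddOrder.TypesMain Cfsg.Agent.Lib.OddOrder.TypesSets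
open Cfsg.Agent.Lib.OddOrder.TypesTame Cfsg.Agent.Lib.OddOrder.Dade0 Cfsg.Agent.Lib.OddOrder.Unique2

variable {G : Type u} [Group G] [Finite G]

theorem isComplIn_conjSub {A B M : Subgroup G} (h : IsComplIn A B M) (g : G) :
    IsComplIn (conjSub g A) (conjSub g B) (conjSub g M) := by
  refine ⟨conjSub_mono g h.1, conjSub_mono g h.2.1, ?_, ?_⟩
  · have h2 : conjSub g A ⊓ conjSub g B = conjSub g (A ⊓ B) :=
      (Subgroup.map_inf _ _ _ (MulAut.conj g).injective).symm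
    rw [h2, h.2.2.1]
    exact Subgroup.map_bot _
  · intro m hm
    rw [mem_conjSub] at hm
    obtain ⟨a, ha, b, hb, hab⟩ := h.2.2.2 _ hm
    refine ⟨g * a * g⁻¹, conj_mem_conjSub ha, g * b * g⁻¹, conj_mem_conjSub hb, ?_⟩
    have : m = g * (g⁻¹ * m * g) * g⁻¹ := by group
    rw [this, hab]; group

theorem kappa_conjSub_iff (h1350 : Stmt1350 G) {M : Subgroup G} (hM : IsCoatom M) (g : G) {p : ℕ} : p ∈ kappa (conjSub g M) ↔ p ∈ kappa M := by
  refine ⟨mem_kappa_of_conjSub h1350 hM g, fun h => ?_⟩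
  apply mem_kappa_of_conjSub h1350 (isCoatom_conjSub g hM) g⁻¹
  rwa [conjSub_inv_conjSub]

/-- Conjugating a standard factorisation. -/
theorem decomp_conjSub (h1350 : Stmt1350 G) {M K U : Subgroup G} (hM : IsCoatom M) (hKU : IsSigmaDecomposition M K U) (g : G) :
    IsSigmaDecomposition (conjSub g M) (conjSub g K) (conjSub g U) := by
  have e : conjSub g K ⊔ sigmaCore (conjSub g M) = conjSub g (K ⊔ sigmaCore M) := by
    rw [sigmaCore_conjSub h1350 hM]
    exact (Subgroup.map_sup _ _ _).symm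
  refine ⟨?_, ⟨conjSub_mono g hKU.hall.1, ?_, ?_⟩, ?_, conjSub_le_normalizer hKU.normal g⟩
  · haveI := hKU.cyclic
    exact isCyclic_of_surjective _ (Subgroup.equivMapOfInjective K (MulAut.conj g).toMonoidHom (MulAut.conj g).injective).surjective
  · intro p hp hd
    rw [card_conjSub] at hd
    exact (kappa_conjSub_iff h1350 hM g).mpr (hKU.hall.2.1 p hp hd)
  · intro p hp hκ
    rw [show (conjSub g K).relIndex (conjSub g M) = K.relIndex M from
      Subgroup.relIndex_map_map_of_injective _ _ (MulAut.conj g).injective]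
    exact hKU.hall.2.2 p hp ((kappa_conjSub_iff h1350 hM g).mp hκ)
  · rw [e]
    exact isComplIn_conjSub hKU.compl g

/-- Inputs of S1539. -/
structure In1539 (G : Type u) [Group G] [Finite G] : Prop where
  tame : In1391 G
  s1361 : Stmt1361 G
  disj : ∀ M N : Subgroup G, IsCoatom M → IsCoatom N → (∀ g : G, N ≠ M.map (MulAut.conj g).toMonoidHom) →
    tildeOf M ((sigmaCore M : Set G) \ {1}) ∩ tildeOf N ((sigmaCore N : Set G) \ {1}) = ∅

section

variable (J : In1391 G) (hG : IsMinSimpleOddOrder G)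

include J hG in
/-- `A(M)` is transported by conjugation. -/
theorem typeA_conjSub {M : Subgroup G} (hM : IsCoatom M) {a : G} (ha : a ∈ typeA M) (g : G) :
    g * a * g⁻¹ ∈ typeA (conjSub g M) := by
  have h1350 := J.main.one.data.s1350
  obtain ⟨K, U, hKU⟩ := exists_decomposition J.main hM
  have hKU' := decomp_conjSub h1350 hM hKU g
  have hM' := isCoatom_conjSub g hM
  rw [typeA_eq J.main hG hM' hKU']
  rw [typeA_eq J.main hG hM hKU] at ha
  obtain ⟨⟨⟨haM, y, hy, hy1, hay⟩, haT⟩, ha1⟩ := ha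
  refine ⟨⟨⟨conj_mem_conjSub haM, g * y * g⁻¹, ?_, conj_ne_one_aux hy1, conj_comm_aux hay⟩, ?_⟩, conj_ne_one_aux ha1⟩
  · rw [sigmaCore_conjSub h1350 hM]
    exact conj_mem_conjSub hy
  · show g * a * g⁻¹ ∈ conjSub g U ⊔ sigmaCore (conjSub g M)
    rw [sigmaCore_conjSub h1350 hM]
    have e : conjSub g U ⊔ conjSub g (sigmaCore M) = conjSub g (U ⊔ sigmaCore M) := (Subgroup.map_sup _ _ _).symm
    rw [e]
    exact conj_mem_conjSub haT

theorem typeA_of_mem_zpowers {M : Subgroup G} {a b : G} (ha : a ∈ typeA M) (hb : b ∈ Subgroup.zpowers a) (hb1 : b ≠ 1) :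
    b ∈ typeA M := by
  classical
  revert ha
  unfold typeA
  split_ifs
  · rintro ⟨h, h1, x, hx, hx1, hc⟩
    refine ⟨(Subgroup.zpowers_le).mpr h hb, hb1, x, hx, hx1, ?_⟩
    obtain ⟨i, rfl⟩ := Subgroup.mem_zpowers_iff.mp hb
    exact (Commute.zpow_left hc i)
  · rintro ⟨h, h1, x, hx, hx1, hc⟩
    refine ⟨(Subgroup.zpowers_le).mpr h hb, hb1, x, hx, hx1, ?_⟩
    obtain ⟨i, rfl⟩ := Subgroup.mem_zpowers_iff.mp hb
    exact (Commute.zpow_left hc i)

include J in
theorem conj_of_common {S T : Subgroup G} (hS : IsCoatom S) (hT : IsCoatom T) {x : G} (hxS : x ∈ sigmaCore S)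
    (hxT : x ∈ sigmaCore T) (hx1 : x ≠ 1) : ∃ g : G, T = S.map (MulAut.conj g).toMonoidHom := by
  obtain ⟨p, hp, hd⟩ := Nat.exists_prime_and_dvd (show orderOf x ≠ 1 from fun h => hx1 (orderOf_eq_one_iff.mp h))
  refine J.s1378.2 S T hS hT ⟨p, ?_, ?_⟩
  · exact mem_sigma_of_dvd hp (hd.trans (Subgroup.orderOf_dvd_natCard _ hxS))
  · exact mem_sigma_of_dvd hp (hd.trans (Subgroup.orderOf_dvd_natCard _ hxT))

include J in
/-- An element of `M` without `κ(M)`-primes lies in `U M_σ`. -/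
theorem mem_T_of_not_kappa {M K U : Subgroup G} (hM : IsCoatom M) (hKU : IsSigmaDecomposition M K U) {y : G} (hy : y ∈ M)
    (hyκ : ∀ p : ℕ, p.Prime → p ∣ orderOf y → p ∉ kappa M) : y ∈ U ⊔ sigmaCore M := by
  have I := J.main.one.data
  by_cases hK : K = ⊥
  · rw [T_eq_of_K_bot I.s1350 hM hKU hK]
    exact hy
  have hcd := compl_derived_K I hM hKU hK
  rw [← (I.s1365 M hM K U hKU hK).1]
  obtain ⟨t, ht, k, hk, rfl⟩ := hcd.2.2.2 y hy
  have hkM : k ∈ M := hKU.hall.1 hk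
  have hpow : ∀ n : ℕ, ∃ d ∈ ⁅M, M⁆, (t * k) ^ n = d * k ^ n := by
    intro n
    induction n with
    | zero => exact ⟨1, Subgroup.one_mem _, by simp⟩
    | succ n ih =>
      obtain ⟨d, hd, he⟩ := ih
      refine ⟨d * (k ^ n * t * (k ^ n)⁻¹), Subgroup.mul_mem _ hd
        (Cfsg.Agent.Lib.OddOrder.TyII.conj_mem_commutator (M.pow_mem hkM n) ht), ?_⟩
      rw [pow_succ, he, pow_succ]
      group
  obtain ⟨d, hd, he⟩ := hpow (orderOf (t * k))
  rw [pow_orderOf_eq_one] at he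
  have hk1 : k ^ orderOf (t * k) = 1 := by
    have h1 : k ^ orderOf (t * k) ∈ ⁅M, M⁆ ⊓ K := by
      refine ⟨?_, K.pow_mem hk _⟩
      have : k ^ orderOf (t * k) = d⁻¹ := by
        have h2 := he.symm
        exact eq_inv_of_mul_eq_one_right h2
      rw [this]
      exact Subgroup.inv_mem _ hd
    rw [hcd.2.2.1, Subgroup.mem_bot] at h1
    exact h1
  have hko : orderOf k ∣ orderOf (t * k) := orderOf_dvd_of_pow_eq_one hk1
  have hk' : k = 1 := by
    by_contra hk'
    obtain ⟨q, hq, hqd⟩ := Nat.exists_prime_and_dvd (show orderOf k ≠ 1 from fun h => hk' (orderOf_eq_one_iff.mp h))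
    exact hyκ q hq (hqd.trans hko) (hKU.hall.2.1 q hq (hqd.trans (Subgroup.orderOf_dvd_natCard _ hk)))
  rw [hk', mul_one]
  exact ht

include J hG in
/-- **L1**: elements of `T_σ` in `S` commuting with an element of `S_σ ∩ A(T)` have no `κ(S)`-primes. -/
theorem not_kappa_of_comm {S T : Subgroup G} (hS : IsCoatom S) (hT : IsCoatom T) {x y : G} (hx : x ∈ sigmaCore S) (hx1 : x ≠ 1)
    (hxT : x ∈ typeA T) (hy : y ∈ sigmaCore T) (hyS : y ∈ S) (hxy : x * y = y * x) {p : ℕ} (hp : p.Prime) (hd : p ∣ orderOf y) :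
    p ∉ kappa S := by
  intro hκ
  have I := J.main.one.data
  have h1350 := I.s1350
  obtain ⟨K, U, hKU⟩ := exists_decomposition J.main hS
  have hK1 : K ≠ ⊥ := ne_bot_of_mem_kappa hKU hκ
  have hy₁o : orderOf (y ^ (orderOf y / p)) = p := orderOf_pow_orderOf_div (orderOf_pos y).ne' hd
  set y₁ := y ^ (orderOf y / p) with hy₁
  have hy₁T : y₁ ∈ sigmaCore T := Subgroup.pow_mem _ hy _
  have hy₁S : y₁ ∈ S := S.pow_mem hyS _
  have hy₁1 : y₁ ≠ 1 := by
    intro h
    rw [h, orderOf_one] at hy₁o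
    exact hp.one_lt.ne hy₁o
  have hxy₁ : x * y₁ = y₁ * x := (Commute.pow_right hxy _)
  -- conjugate into `K`
  have hSs : Group.IsSolvable S := Cfsg.Agent.Lib.OddOrder.PLen.isSolvable_of_coatom hG hS
  have hXcard : Nat.card (Subgroup.zpowers y₁) = p := by rw [Nat.card_zpowers, hy₁o]
  obtain ⟨l, hl, hle⟩ := Cfsg.Agent.Lib.Solvable.HallRel.exists_le_conj_of_le hSs hKU.hall.1
    ((Subgroup.zpowers_le).mpr hy₁S) (coprime_K_relIndex hKU)
    (by rw [hXcard]; exact (Nat.Prime.coprime_iff_not_dvd hp).mpr (hKU.hall.2.2 p hp hκ))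
  have hle' : Subgroup.zpowers y₁ ≤ conjSub l K := hle
  have hkK : l⁻¹ * y₁ * l ∈ K := mem_conjSub.mp (hle' (Subgroup.mem_zpowers y₁))
  set s := l⁻¹ with hs
  have hsS : s ∈ S := S.inv_mem hl
  have hkK' : s * y₁ * s⁻¹ ∈ K := by
    have : s * y₁ * s⁻¹ = l⁻¹ * y₁ * l := by rw [hs]; group
    rw [this]; exact hkK
  set k := s * y₁ * s⁻¹ with hk
  have hk1 : k ≠ 1 := conj_ne_one_aux hy₁1
  set x' := s * x * s⁻¹ with hx'
  have hx'σ : x' ∈ sigmaCore S := (Subgroup.mem_normalizer_iff.mp (le_normalizer_sigmaCore S hsS) x).mp hx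
  have hx'1 : x' ≠ 1 := conj_ne_one_aux hx1
  have hx'k : x' * k = k * x' := conj_comm_aux hxy₁
  set T' := conjSub s T with hT'
  have hT'c : IsCoatom T' := isCoatom_conjSub s hT
  have hkT' : k ∈ sigmaCore T' := by
    rw [hT', sigmaCore_conjSub h1350 hT]
    exact conj_mem_conjSub hy₁T
  have hx'T' : x' ∈ typeA T' := typeA_conjSub J hG hT hxT s
  -- `x'` lies in `K*`
  set Kst := sigmaCore S ⊓ Subgroup.centralizer (K : Set G) with hKst
  have hx'C : x' ∈ S ⊓ Subgroup.centralizer ({k} : Set G) :=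
    ⟨sigmaCore_le S hx'σ, mem_centralizer_singleton.mpr hx'k⟩
  rw [(I.s1354 S hS K hKU.cyclic hKU.hall).2 hK1 k hkK' hk1] at hx'C
  have hKstN : Kst ≤ Subgroup.normalizer (K : Set G) :=
    inf_le_right.trans (Subgroup.centralizer_le_normalizer _)
  obtain ⟨k₂, hk₂, c, hc, hkc⟩ := exists_mul_of_mem_sup hKstN hx'C
  have hk₂1 : k₂ = 1 := by
    have h1 : k₂ ∈ K ⊓ sigmaCore S := by
      refine ⟨hk₂, ?_⟩
      have : k₂ = x' * c⁻¹ := by rw [hkc]; group
      rw [this]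
      exact Subgroup.mul_mem _ hx'σ (Subgroup.inv_mem _ hc.1)
    rw [inf_K_sigma h1350 hS hKU, Subgroup.mem_bot] at h1
    exact h1
  have hx'K : x' ∈ Kst := by
    rw [hkc, hk₂1, one_mul]
    exact hc
  -- the partner
  obtain ⟨N, ⟨hN, hKN, hHN⟩, -⟩ := J.main.s1366 S hS K U hKU hK1
  have hkN : k ∈ sigmaCore N := by
    have h2 : k ∈ K := hkK'
    rw [hKN] at h2
    exact h2.1
  obtain ⟨g, hg⟩ := conj_of_common J hN hT'c hkN hkT' hk1
  have hg' : T' = conjSub g N := hg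
  obtain ⟨q, hq, hqd⟩ := Nat.exists_prime_and_dvd (show orderOf x' ≠ 1 from fun h => hx'1 (orderOf_eq_one_iff.mp h))
  have hqκN : q ∈ kappa N := hHN.2.1 q hq (hqd.trans (Subgroup.orderOf_dvd_natCard _ hx'K))
  have hqκ : q ∈ kappa T' := by
    rw [hg']
    exact (kappa_conjSub_iff h1350 hN g).mpr hqκN
  obtain ⟨K', U', hKU'⟩ := exists_decomposition J.main hT'c
  rw [typeA_eq J.main hG hT'c hKU'] at hx'T'
  exact not_kappa_of_mem J hT'c hKU' hx'T'.1.2 hq hqd hqκ

end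

section

variable (J : In1539 G) (hG : IsMinSimpleOddOrder G)

include J hG in
/-- Centralizers of `σ'`-elements commuting with elements of `M_σ`. -/
theorem centralizer_unique {S : Subgroup G} (hS : IsCoatom S) {x y : G} (hx : x ∈ sigmaCore S) (hx1 : x ≠ 1) (hyS : y ∈ S) (hy1 : y ≠ 1)
    (hxy : x * y = y * x) (hyσ : ∀ p : ℕ, p.Prime → p ∣ orderOf y → p ∉ sigma S)
    (hyκ : ∀ p : ℕ, p.Prime → p ∣ orderOf y → p ∉ kappa S) :
    Subgroup.centralizer ({y} : Set G) ≤ S ∧ ∀ L : Subgroup G, IsCoatom L → Subgroup.centralizer ({y} : Set G) ≤ L → L = S := by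
  have I := J.tame.main.one.data
  have h1350 := I.s1350
  obtain ⟨K, U, hKU⟩ := exists_decomposition J.tame.main hS
  have hyT := mem_T_of_not_kappa J.tame hS hKU hyS hyκ
  have hTS : U ⊔ sigmaCore S ≤ S := sup_le hKU.compl.1 (sigmaCore_le S)
  have hTs : Group.IsSolvable ↥(U ⊔ sigmaCore S) := isSolvable_le hG hS hTS
  have hc1 := isComplIn_symm (compl_sigma_U hKU)
  have hrel : U.relIndex (U ⊔ sigmaCore S) = Nat.card (sigmaCore S) := relIndex_of_compl hc1
  have hUσ : (Nat.card U).Coprime (Nat.card (sigmaCore S)) := by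
    apply Nat.Coprime.symm
    apply Nat.coprime_of_dvd
    intro q hq h1 h2
    have hH := (h1350 S hS).1
    apply hH.2.2 q hq (hH.2.1 q hq h1)
    have h3 : (K ⊔ sigmaCore S).relIndex S = Nat.card U := relIndex_of_compl (isComplIn_symm hKU.compl)
    have h4 := Subgroup.relIndex_mul_relIndex (sigmaCore S) (K ⊔ sigmaCore S) S le_sup_right hKU.compl.2.1
    rw [← h4, h3]
    exact h2.trans (Dvd.intro_left _ rfl)
  have hXσ : (Nat.card (Subgroup.zpowers y)).Coprime (Nat.card (sigmaCore S)) := by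
    rw [Nat.card_zpowers]
    apply Nat.coprime_of_dvd
    intro q hq h1 h2
    exact hyσ q hq h1 (mem_sigma_of_dvd hq h2)
  obtain ⟨l', hl', hle⟩ := Cfsg.Agent.Lib.Solvable.HallRel.exists_le_conj_of_le hTs
    (le_sup_left : U ≤ U ⊔ sigmaCore S) ((Subgroup.zpowers_le).mpr hyT) (by rw [hrel]; exact hUσ) (by rw [hrel]; exact hXσ)
  have hle' : Subgroup.zpowers y ≤ conjSub l' U := hle
  have huU : l'⁻¹ * y * l' ∈ U := mem_conjSub.mp (hle' (Subgroup.mem_zpowers y))
  set l := l'⁻¹ with hl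
  have hlS : l ∈ S := S.inv_mem (hTS hl')
  have huU' : l * y * l⁻¹ ∈ U := by
    have : l * y * l⁻¹ = l'⁻¹ * y * l' := by rw [hl]; group
    rw [this]; exact huU
  set u := l * y * l⁻¹ with hu
  have hu1 : u ≠ 1 := conj_ne_one_aux hy1
  have hCz : Subgroup.centralizer ((Subgroup.zpowers u : Subgroup G) : Set G) = Subgroup.centralizer ({u} : Set G) := by
    rw [Subgroup.zpowers_eq_closure]
    exact Cfsg.Agent.Lib.OddOrder.TyA.centralizer_closure_eq _
  have hXne : Subgroup.zpowers u ≠ ⊥ := by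
    intro h
    have := Subgroup.mem_zpowers u
    rw [h, Subgroup.mem_bot] at this
    exact hu1 this
  have hXc : sigmaCore S ⊓ Subgroup.centralizer ((Subgroup.zpowers u : Subgroup G) : Set G) ≠ ⊥ := by
    intro h
    have h1 : l * x * l⁻¹ ∈ sigmaCore S ⊓ Subgroup.centralizer ((Subgroup.zpowers u : Subgroup G) : Set G) := by
      refine ⟨(Subgroup.mem_normalizer_iff.mp (le_normalizer_sigmaCore S hlS) x).mp hx, ?_⟩
      rw [hCz]
      exact mem_centralizer_singleton.mpr (conj_comm_aux hxy)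
    rw [h, Subgroup.mem_bot] at h1
    exact conj_ne_one_aux hx1 h1
  have h61 := J.s1361 S hS K U hKU (Subgroup.zpowers u) ((Subgroup.zpowers_le).mpr huU') hXne hXc
  rw [hCz] at h61
  have hCu : Subgroup.centralizer ({u} : Set G) = conjSub l (Subgroup.centralizer ({y} : Set G)) :=
    Cfsg.Agent.Lib.OddOrder.Part5.centralizer_conj_eq l y
  have hlN : conjSub l S = S := conjSub_eq_of_mem_normalizer' (Subgroup.le_normalizer hlS)
  have hlNi : conjSub l⁻¹ S = S := by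
    conv_lhs => rw [← hlN]
    exact conjSub_inv_conjSub l S
  constructor
  · have h2 := conjSub_mono l⁻¹ h61.1
    rw [hCu, conjSub_inv_conjSub, hlNi] at h2
    exact h2
  · intro L hL hCL
    have h2 : Subgroup.centralizer ({u} : Set G) ≤ conjSub l L := by
      rw [hCu]; exact conjSub_mono l hCL
    have h3 := h61.2 _ (isCoatom_conjSub l hL) h2
    have h4 : L = conjSub l⁻¹ (conjSub l L) := (conjSub_inv_conjSub l L).symm
    rw [h4, h3, hlNi]

include J hG in
/-- The second clause of S1539. -/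
theorem clause_two {S T : Subgroup G} (hS : IsCoatom S) (hT : IsCoatom T)
    (hnc : ∀ g : G, T.map (MulAut.conj g).toMonoidHom ≠ S) {x : G} (hx : x ∈ typeA1 S) (hxT : x ∈ typeA T) :
    ¬ Subgroup.centralizer ({x} : Set G) ≤ S ∧ Subgroup.centralizer ({x} : Set G) ≤ T := by
  have J' := J.tame
  have I := J'.main.one.data
  have h1350 := I.s1350
  have hnc' : ∀ g : G, T ≠ S.map (MulAut.conj g).toMonoidHom := by
    intro g h
    apply hnc g⁻¹
    rw [h]
    exact conjSub_inv_conjSub g S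
  rw [typeA1_eq J' hG hS] at hx
  obtain ⟨hxσ, hx1⟩ := hx
  have hx1' : x ≠ 1 := hx1
  have key : ∀ z : G, z ∈ sigmaCore S → z ∈ sigmaCore T → z = 1 := by
    intro z h1 h2
    by_contra hz
    obtain ⟨g, hg⟩ := conj_of_common J' hS hT h1 h2 hz
    exact hnc' g hg
  have hCT : Subgroup.centralizer ({x} : Set G) ≤ T := by
    by_contra hC
    have h2 := ((s1391 J' hG T hT (typeA T) (Or.inl rfl)).2.1 x hxT hC).1
    rw [typeA1_eq J' hG hT] at h2
    exact hx1' (key x hxσ h2.1)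
  refine ⟨?_, hCT⟩
  intro hCS
  obtain ⟨KT, UT, hKUT⟩ := exists_decomposition J'.main hT
  have hxT' := hxT
  rw [typeA_eq J'.main hG hT hKUT] at hxT'
  obtain ⟨⟨⟨hxTm, y, hy, hy1, hxy⟩, -⟩, -⟩ := hxT'
  have hyS : y ∈ S := hCS (mem_centralizer_singleton.mpr hxy.symm)
  have hyσ : ∀ p : ℕ, p.Prime → p ∣ orderOf y → p ∉ sigma S := by
    intro p hp hd hpσ
    have hpT : p ∈ sigma T := mem_sigma_of_dvd hp (hd.trans (Subgroup.orderOf_dvd_natCard _ hy))
    obtain ⟨g, hg⟩ := J'.s1378.2 S T hS hT ⟨p, hpσ, hpT⟩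
    exact hnc' g hg
  have hyκ : ∀ p : ℕ, p.Prime → p ∣ orderOf y → p ∉ kappa S := fun p hp hd =>
    not_kappa_of_comm J' hG hS hT hxσ hx1' hxT hy hyS hxy hp hd
  obtain ⟨hCyS, huniq⟩ := centralizer_unique J hG hS hxσ hx1' hyS hy1 hxy hyσ hyκ
  have hCyT : ¬ Subgroup.centralizer ({y} : Set G) ≤ T := by
    intro h
    have h2 := huniq T hT h
    apply hnc 1
    rw [h2]
    exact conjSub_one S
  have hyA1 : y ∈ typeA1 T := by
    rw [typeA1_eq J' hG hT]
    exact ⟨hy, hy1⟩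
  have hyA : y ∈ typeA T := typeA1_subset J' hG hT hyA1
  obtain ⟨hcompl, -⟩ := (s1391 J' hG T hT (typeA T) (Or.inl rfl)).2.2 y hyA hCyT S hS hCyS
  obtain ⟨N, ⟨hN, hCN⟩, hNu, hNF, -⟩ := J'.main.one.s1375 T hT y hy hy1 hCyT
  have hNS : S = N := hNu S hS hCyS
  rw [← hNS] at hNF
  have hxF : x ∈ fittingHallOf S := by rw [← hNF]; exact hxσ
  have h3 : x ∈ fittingHallOf S ⊓ (T ⊓ S) := ⟨hxF, typeA_subset hxT, sigmaCore_le S hxσ⟩
  rw [hcompl.2.2.1, Subgroup.mem_bot] at h3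
  exact hx1' h3

theorem conj_ne_one_aux' {w a : G} (ha : a ≠ 1) : w⁻¹ * a * w ≠ 1 := by
  intro h
  apply ha
  have : a = w * (w⁻¹ * a * w) * w⁻¹ := by group
  rw [this, h]; group

/-- Commuting elements of coprime orders: the factor is a power of the product. -/
theorem mem_zpowers_mul_of_coprime {a r : G} (hc : a * r = r * a) (hcop : (orderOf a).Coprime (orderOf r)) :
    a ∈ Subgroup.zpowers (a * r) := by
  have hg : Int.gcd (orderOf a) (orderOf r) = 1 := by
    rw [Int.gcd_natCast_natCast]; exact hcop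
  have hb := Int.gcd_eq_gcd_ab (orderOf a) (orderOf r)
  rw [hg] at hb
  rw [Subgroup.mem_zpowers_iff]
  refine ⟨orderOf r * Int.gcdB (orderOf a) (orderOf r), ?_⟩
  have hcm : Commute a r := hc
  rw [hcm.mul_zpow]
  have h2 : r ^ ((orderOf r : ℤ) * Int.gcdB (orderOf a) (orderOf r)) = 1 := by
    rw [zpow_mul, zpow_natCast, pow_orderOf_eq_one, one_zpow]
  rw [h2, mul_one]
  have h3 : ((orderOf r : ℤ) * Int.gcdB (orderOf a) (orderOf r)) = 1 - (orderOf a : ℤ) * Int.gcdA (orderOf a) (orderOf r) := by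
    have : ((1 : ℕ) : ℤ) = (orderOf a : ℤ) * Int.gcdA (orderOf a) (orderOf r) + (orderOf r : ℤ) * Int.gcdB (orderOf a) (orderOf r) := hb
    push_cast at this
    linarith
  rw [h3, zpow_sub, zpow_one, zpow_mul, zpow_natCast, pow_orderOf_eq_one, one_zpow, inv_one, mul_one]

include J hG in
/-- Data of a supporting maximal subgroup. -/
theorem supports_data {S L : Subgroup G} (hS : IsCoatom S) (h : Supports L S) :
    ∃ x ∈ typeA1 S, x ∈ typeA L ∧ ¬ Subgroup.centralizer ({x} : Set G) ≤ S ∧ Subgroup.centralizer ({x} : Set G) ≤ L := by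
  have J' := J.tame
  obtain ⟨hL, x, hx, hC, hCL⟩ := h
  have h1 := (s1391 J' hG S hS (typeA0 S) (Or.inr rfl)).2.1 x hx hC
  have h2 := (s1391 J' hG S hS (typeA0 S) (Or.inr rfl)).2.2 x hx hC L hL hCL
  exact ⟨x, h1.1, h2.2.2.2.2.1.1, hC, hCL⟩

include J hG in
theorem part3_mp {S T : Subgroup G} (hS : IsCoatom S) (hT : IsCoatom T) (g : G)
    (h : Supports (T.map (MulAut.conj g).toMonoidHom) S) : (tildeOf S (typeA1 S) ∩ tildeOf T (typeA T)).Nonempty := by
  have J' := J.tame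
  obtain ⟨x, h1, h2, -, -⟩ := supports_data J hG hS h
  have h3 : g⁻¹ * x * g⁻¹⁻¹ ∈ typeA (conjSub g⁻¹ (conjSub g T)) := typeA_conjSub J' hG (isCoatom_conjSub g hT) h2 g⁻¹
  rw [conjSub_inv_conjSub, inv_inv] at h3
  refine ⟨x, ⟨x, h1, 1, Subgroup.one_mem _, 1, by group⟩, ⟨g⁻¹ * x * g, h3, 1, Subgroup.one_mem _, g, by group⟩⟩

include J hG in
theorem part3_mpr {S T : Subgroup G} (hS : IsCoatom S) (hT : IsCoatom T)
    (hnc : ∀ g : G, T.map (MulAut.conj g).toMonoidHom ≠ S)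
    (h : (tildeOf S (typeA1 S) ∩ tildeOf T (typeA T)).Nonempty) :
    ∃ g : G, Supports (T.map (MulAut.conj g).toMonoidHom) S := by
  classical
  have J' := J.tame
  obtain ⟨z, ⟨a, ha, r, hr, u, hz⟩, ⟨b, hb, s, hs, v, hz'⟩⟩ := h
  by_cases hs1 : s = 1
  · subst hs1
    rw [mul_one] at hz'
    set w := u⁻¹ * v with hw
    have e : a * r = w * b * w⁻¹ := by
      have h1 : a * r = u⁻¹ * z * u := by rw [hz]; group
      rw [h1, hz', hw]; group
    have ha0 : a ∈ typeA0 S := typeA_subset_typeA0 (typeA1_subset J' hG hS ha)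
    have ha1 : a ≠ 1 := by
      rw [typeA1_eq J' hG hS] at ha
      exact ha.2
    have haz : a ∈ Subgroup.zpowers (a * r) := by
      rcases supportR_cases J' hG hS ha0 with ⟨-, h⟩ | ⟨hC, L, hL, hCL, h⟩
      · rw [h, Subgroup.mem_bot] at hr
        rw [hr, mul_one]
        exact Subgroup.mem_zpowers a
      · rw [h] at hr
        obtain ⟨-, -, -, hcop, -⟩ := (s1391 J' hG S hS (typeA0 S) (Or.inr rfl)).2.2 a ha0 hC L hL hCL
        refine mem_zpowers_mul_of_coprime (mem_centralizer_singleton.mp hr.2).symm ?_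
        have h1 := hcop a ha0
        refine Nat.Coprime.coprime_dvd_left ?_ (Nat.Coprime.coprime_dvd_right ?_ h1.symm)
        · exact Subgroup.orderOf_dvd_natCard _ (show a ∈ S ⊓ Subgroup.centralizer ({a} : Set G) from
            ⟨typeA0_subset ha0, mem_centralizer_singleton.mpr rfl⟩)
        · exact Subgroup.orderOf_dvd_natCard _ hr.1
    rw [e] at haz
    obtain ⟨i, hi⟩ := Subgroup.mem_zpowers_iff.mp haz
    have ha' : w⁻¹ * a * w ∈ typeA T := by
      apply typeA_of_mem_zpowers hb (Subgroup.mem_zpowers_iff.mpr ⟨i, ?_⟩) (conj_ne_one_aux' ha1)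
      rw [← hi, conj_zpow]
      group
    have h2 := typeA_conjSub J' hG hT ha' w
    have e2 : w * (w⁻¹ * a * w) * w⁻¹ = a := by group
    rw [e2] at h2
    have hnc2 : ∀ g : G, (conjSub w T).map (MulAut.conj g).toMonoidHom ≠ S := by
      intro g hg
      apply hnc (g * w)
      rw [← hg]
      exact conjSub_mul g w T
    have h3 := clause_two J hG hS (isCoatom_conjSub w hT) hnc2 ha h2
    exact ⟨w, isCoatom_conjSub w hT, a, ha0, h3.1, h3.2⟩
  · exfalso
    have hCb : ¬ Subgroup.centralizer ({b} : Set G) ≤ T := by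
      intro h
      rw [Cfsg.Agent.Lib.OddOrder.Part4.supportR_of_le h, Subgroup.mem_bot] at hs
      exact hs1 hs
    have hbA1 := ((s1391 J' hG T hT (typeA T) (Or.inl rfl)).2.1 b hb hCb).1
    rw [typeA1_eq J' hG hT] at hbA1
    rw [typeA1_eq J' hG hS] at ha
    have hd := J.disj T S hT hS (fun g h => hnc g h.symm)
    have hm : z ∈ tildeOf T ((sigmaCore T : Set G) \ {1}) ∩ tildeOf S ((sigmaCore S : Set G) \ {1}) :=
      ⟨⟨b, hbA1, s, hs, v, hz'⟩, ⟨a, ha, r, hr, u, hz⟩⟩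
    rw [hd] at hm
    exact hm

include J hG in
/-- **S1539** (conditional). -/
theorem s1539 (S T : Subgroup G) (hS : IsCoatom S) (hT : IsCoatom T)
    (hnc : ∀ g : G, T.map (MulAut.conj g).toMonoidHom ≠ S) :
    (Supports T S ↔ (typeA1 S ∩ typeA T).Nonempty) ∧
    (∀ x ∈ typeA1 S ∩ typeA T, ¬ Subgroup.centralizer ({x} : Set G) ≤ S ∧ Subgroup.centralizer ({x} : Set G) ≤ T) ∧
    ((∃ g : G, Supports (T.map (MulAut.conj g).toMonoidHom) S) ↔ (tildeOf S (typeA1 S) ∩ tildeOf T (typeA T)).Nonempty) ∧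
    (tildeOf S (typeA1 S) ∩ tildeOf T (typeA T) = ∅ ∨ tildeOf T (typeA1 T) ∩ tildeOf S (typeA S) = ∅) := by
  classical
  have J' := J.tame
  have I := J'.main.one.data
  have h1350 := I.s1350
  have hnc' : ∀ g : G, S.map (MulAut.conj g).toMonoidHom ≠ T := by
    intro g h
    apply hnc g⁻¹
    rw [← h]
    exact conjSub_inv_conjSub g S
  refine ⟨⟨?_, ?_⟩, ?_, ⟨?_, part3_mpr J hG hS hT hnc⟩, ?_⟩
  · intro h
    obtain ⟨x, h1, h2, -, -⟩ := supports_data J hG hS h
    exact ⟨x, h1, h2⟩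
  · rintro ⟨x, h1, h2⟩
    have h3 := clause_two J hG hS hT hnc h1 h2
    exact ⟨hT, x, typeA_subset_typeA0 (typeA1_subset J' hG hS h1), h3.1, h3.2⟩
  · intro x hx
    exact clause_two J hG hS hT hnc hx.1 hx.2
  · rintro ⟨g, hg⟩
    exact part3_mp J hG hS hT g hg
  · by_contra hcon
    rw [not_or] at hcon
    obtain ⟨h1, h2⟩ := hcon
    obtain ⟨g, hg⟩ := part3_mpr J hG hS hT hnc (Set.nonempty_iff_ne_empty.mpr h1)
    obtain ⟨k, hk⟩ := part3_mpr J hG hT hS hnc' (Set.nonempty_iff_ne_empty.mpr h2)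
    obtain ⟨x, hx1, hx2, -, -⟩ := supports_data J hG hS hg
    obtain ⟨y, hy1, hy2, hyC, hyL⟩ := supports_data J hG hT hk
    have hw : g⁻¹ * x * g⁻¹⁻¹ ∈ typeA (conjSub g⁻¹ (conjSub g T)) := typeA_conjSub J' hG (isCoatom_conjSub g hT) hx2 g⁻¹
    rw [conjSub_inv_conjSub, inv_inv] at hw
    have hyA : y ∈ typeA T := typeA1_subset J' hG hT hy1
    have hkc : IsCoatom (conjSub k S) := isCoatom_conjSub k hS
    obtain ⟨-, -, -, hcop, -⟩ := (s1391 J' hG T hT (typeA T) (Or.inl rfl)).2.2 y hyA hyC (conjSub k S) hkc hyL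
    have hy1' := hy1
    rw [typeA1_eq J' hG hT] at hy1'
    obtain ⟨N, ⟨hN, hCN⟩, hNu, hNF, -⟩ := J'.main.one.s1375 T hT y hy1'.1 hy1'.2 hyC
    have hNS : conjSub k S = N := hNu _ hkc hyL
    rw [← hNS] at hNF
    have hcard : Nat.card (fittingHallOf (conjSub k S)) = Nat.card (sigmaCore S) := by
      rw [← hNF, sigmaCore_conjSub h1350 hS, card_conjSub]
    have h3 := hcop _ hw
    rw [hcard] at h3
    have hx1' := hx1
    rw [typeA1_eq J' hG hS] at hx1'
    have h4 : orderOf x ∣ Nat.card (sigmaCore S) := Subgroup.orderOf_dvd_natCard _ hx1'.1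
    have h5 : orderOf (g⁻¹ * x * g) ∣ Nat.card ↥(T ⊓ Subgroup.centralizer ({g⁻¹ * x * g} : Set G)) :=
      Subgroup.orderOf_dvd_natCard _ (show g⁻¹ * x * g ∈ T ⊓ Subgroup.centralizer ({g⁻¹ * x * g} : Set G) from
        ⟨typeA_subset hw, mem_centralizer_singleton.mpr rfl⟩)
    have h6 : orderOf (g⁻¹ * x * g) = orderOf x := by
      have := orderOf_conj' g⁻¹ x
      rwa [inv_inv] at this
    rw [h6] at h5
    have h7 := Nat.dvd_gcd h4 h5
    rw [h3.gcd_eq_one] at h7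
    exact hx1'.2 (orderOf_eq_one_iff.mp (Nat.dvd_one.mp h7))

end

end Cfsg.Agent.Lib.OddOrder.Dade1
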