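import Cfsg.Agent.Lib.OddOrder.KapH
import Cfsg.Agent.Lib.OddOrder.TriB
import Cfsg.Agent.Lib.OddOrder.TriC
import Cfsg.Agent.Lib.OddOrder.KapD3

/-!
# Unconditional forms: `σ`-disjointness, the `τ₃` dichotomy, `T1`, the structure theorem
-/

set_option autoImplicit false

universe u

namespace Cfsg.Agent.Lib.OddOrder.KapZ

open Cfsg Cfsg.Agent.Lib.OddOrder.KapA

variable {G : Type u} [Group G] [Finite G]

/-- `T1` in the form required by the `τ₃` dichotomy. -/
theorem tauOneSigma (hG : IsMinSimpleOddOrder G) : KapD.TauOneSigma G := by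
  intro M hM E hE p hp P hPE hP hD H hH hNH
  haveI : Fact p.Prime := ⟨hp.1⟩
  exact KapC.t11 hG (TriB.sigmaDisj hG) hM hp.2.1 hp.2.2.2.1 hp.2.2.2.2 (hPE.trans hE.1) hP hD hH hNH

/-- Scenario I is impossible. -/
theorem scenIFalse (hG : IsMinSimpleOddOrder G) : KapD.ScenIFalse G :=
  fun M hM E hE p hp P hPE hP R hRE hR hmove => TriC.scenI hG M hM E hE p hp P hPE hP R hRE hR hmove

/-- The `τ₃` dichotomy, unconditionally. -/
theorem kapDich (hG : IsMinSimpleOddOrder G) : KapDich G :=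
  KapD.kapDich hG (TriB.sigmaDisj hG) (scenIFalse hG) (tauOneSigma hG)

/-- The structure of `M` relative to a Hall `κ(M)`-subgroup, unconditionally. -/
theorem kdata (hG : IsMinSimpleOddOrder G) {M K : Subgroup G} (hM : IsCoatom M) (hK : IsPiHallOf (kappa M) K M) (hK1 : K ≠ ⊥) :
    KapG.KData M K :=
  KapG.kdata hG (TriB.sigmaDisj hG) (kapDich hG) hM hK hK1

/-- All `κ(M)`-primes lie in `σ(H)` for `H ≥ N(P)`. -/
theorem sigma_of_kappa (hG : IsMinSimpleOddOrder G) {M H P : Subgroup G} {p : ℕ} [hp : Fact p.Prime] (hM : IsCoatom M)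
    (h : p ∈ kappa M) (hPM : P ≤ M) (hPc : Nat.card P = p) (hH : IsCoatom H)
    (hNH : Subgroup.normalizer (P : Set G) ≤ H) : p ∈ sigma H :=
  KapF.sigma_of_kappa hG (TriB.sigmaDisj hG) (kapDich hG) hM h hPM hPc hH hNH

end Cfsg.Agent.Lib.OddOrder.KapZ
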