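import Cfsg.Agent.Lib.OddOrder.UniqFitB

/-!
# Control of fusion for `p ∈ σ(M)`, given uniqueness for abelian `p`-subgroups of rank three

The argument of B&G Section 10 (S1404), with the input "every abelian `p`-subgroup of rank at least three
is in `𝓤`" as a hypothesis.
-/

set_option autoImplicit false
set_option linter.unusedSectionVars false
set_option linter.unusedSimpArgs false
set_option linter.style.haveILetI false

open scoped commutatorElement
open scoped Pointwise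

namespace Cfsg.Agent.Lib.OddOrder.UniqCtrl

open Cfsg Cfsg.Agent.Lib.Core.Basic Cfsg.Agent.Lib.Coprime.Action
open Cfsg.Agent.Lib.OddOrder.Transitivity Cfsg.Agent.Lib.OddOrder.Unique Cfsg.Agent.Lib.OddOrder.Unique2
open Cfsg.Agent.Lib.Coprime.SchurZassenhaus Cfsg.Agent.Lib.OddOrder.TransP

variable {G : Type*} [Group G] [Finite G]

variable {p : ℕ} [hp : Fact p.Prime]

/-! ### Conjugation API -/

theorem conj_smul_eq_conjSub (k : G) (Q : Subgroup G) : MulAut.conj k • Q = conjSub k Q := rfl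

theorem conjSub_eq_of_mem_centralizer {c : G} {X : Subgroup G}
    (hc : c ∈ Subgroup.centralizer (X : Set G)) : conjSub c X = X := by
  ext x
  rw [mem_conjSub]
  constructor
  · intro hx
    have h1 : (c⁻¹ * x * c) * c = c * (c⁻¹ * x * c) := Subgroup.mem_centralizer_iff.mp hc _ hx
    have : x = c⁻¹ * x * c := by
      calc x = c * (c⁻¹ * x * c) * c⁻¹ := by group
        _ = (c⁻¹ * x * c) * c * c⁻¹ := by rw [h1]
        _ = c⁻¹ * x * c := by group
    rw [this]
    exact hx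
  · intro hx
    have h1 : x * c = c * x := Subgroup.mem_centralizer_iff.mp hc _ hx
    have : c⁻¹ * x * c = x := by
      calc c⁻¹ * x * c = c⁻¹ * (x * c) := by group
        _ = c⁻¹ * (c * x) := by rw [h1]
        _ = x := by group
    rw [this]
    exact hx

theorem centralizer_le_normalizer' (X : Subgroup G) :
    Subgroup.centralizer (X : Set G) ≤ Subgroup.normalizer (X : Set G) := fun _ hc =>
  mem_normalizer_of_conjSub_eq (conjSub_eq_of_mem_centralizer hc)

theorem mem_centralizer_conjSub {m c : G} {X : Subgroup G}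
    (hc : c ∈ Subgroup.centralizer (conjSub m X : Set G)) :
    m⁻¹ * c * m ∈ Subgroup.centralizer (X : Set G) := by
  rw [Subgroup.mem_centralizer_iff] at hc ⊢
  intro x hx
  have h1 : m * x * m⁻¹ * c = c * (m * x * m⁻¹) := hc (m * x * m⁻¹) (conj_mem_conjSub hx)
  calc x * (m⁻¹ * c * m) = m⁻¹ * (m * x * m⁻¹ * c) * m := by group
    _ = m⁻¹ * (c * (m * x * m⁻¹)) * m := by rw [h1]
    _ = m⁻¹ * c * m * x := by group

theorem mem_centralizer_of_mem_normalizer {m c : G} {X : Subgroup G}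
    (hm : m ∈ Subgroup.normalizer (X : Set G)) (hc : c ∈ Subgroup.centralizer (X : Set G)) :
    m⁻¹ * c * m ∈ Subgroup.centralizer (X : Set G) := by
  apply mem_centralizer_conjSub
  rwa [conjSub_eq_of_mem_normalizer hm]

theorem centralizer_anti {X Y : Subgroup G} (h : X ≤ Y) :
    Subgroup.centralizer (Y : Set G) ≤ Subgroup.centralizer (X : Set G) :=
  Subgroup.centralizer_le h

theorem card_lt_of_lt {H K : Subgroup G} (h : H < K) : Nat.card H < Nat.card K := by
  refine lt_of_le_of_ne (Subgroup.card_le_of_le h.le) ?_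
  intro he
  exact h.ne (Subgroup.eq_of_le_of_card_ge h.le he.ge)

/-! ### Sylow subgroups of `M` for `p ∈ σ(M)` -/

theorem exists_isSylowIn_ge {X K : Subgroup G} (hXK : X ≤ K) (hX : IsPGroup p X) :
    ∃ P, IsSylowIn p P K ∧ X ≤ P := by
  have hQ' : IsPGroup p (X.subgroupOf K) := hX.comap_subtype
  obtain ⟨R, hR⟩ := hQ'.exists_le_sylow
  refine ⟨_, isSylowIn_map R, ?_⟩
  intro x hx
  exact ⟨⟨x, hXK hx⟩, hR hx, rfl⟩

theorem normalizer_conjSub_le {M Q : Subgroup G} (hN : Subgroup.normalizer (Q : Set G) ≤ M) {k : G} (hk : k ∈ M) :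
    Subgroup.normalizer (conjSub k Q : Set G) ≤ M := by
  intro x hx
  have h1 : k⁻¹ * x * k ∈ Subgroup.normalizer (Q : Set G) := by
    apply mem_normalizer_of_conjSub_eq
    have h2 := conjSub_eq_of_mem_normalizer hx
    rw [conjSub_mul, conjSub_mul, h2, conjSub_inv_conjSub]
  have h2 := M.mul_mem (M.mul_mem hk (hN h1)) (M.inv_mem hk)
  have h3 : k * (k⁻¹ * x * k) * k⁻¹ = x := by group
  rwa [h3] at h2

/-- For `p ∈ σ(M)` every Sylow subgroup of `M` has its normalizer in `M`. -/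
theorem normalizer_le_of_mem_sigma {M P : Subgroup G} (hpM : p ∈ sigma M) (hP : IsSylowIn p P M) :
    Subgroup.normalizer (P : Set G) ≤ M := by
  obtain ⟨-, -, Q, hQ⟩ := hpM
  obtain ⟨k, hk, hk'⟩ := (isSylowIn_map Q).exists_conj hP
  rw [← hk']
  exact normalizer_conjSub_le hQ hk

/-- For `p ∈ σ(M)` every Sylow subgroup of `M` is Sylow in `G`. -/
theorem isSylowIn_top_of_mem_sigma {M P : Subgroup G} (hpM : p ∈ sigma M) (hP : IsSylowIn p P M) :
    IsSylowIn p P ⊤ := by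
  by_contra hs
  obtain ⟨T, -, hTp, hPT⟩ := exists_lt_of_not_isSylowIn (X := ⊤) le_top hP.2.1 hs
  have hlt := exists_mem_normalizer_of_lt hTp hPT
  have hle : T ⊓ Subgroup.normalizer (P : Set G) ≤ M :=
    inf_le_right.trans (normalizer_le_of_mem_sigma hpM hP)
  have := eq_of_isSylowIn_of_le hP hlt.le hle (hTp.to_le inf_le_left)
  exact hlt.ne this.symm

theorem conjSub_isSylowIn_top {P : Subgroup G} (hP : IsSylowIn p P ⊤) (a : G) :
    IsSylowIn p (conjSub a P) ⊤ := hP.conj_of_mem_normalizer (Subgroup.le_normalizer (Subgroup.mem_top a))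

/-- Every `p`-subgroup is conjugate into a given Sylow subgroup of `G`. -/
theorem exists_conjSub_le {P T : Subgroup G} (hP : IsSylowIn p P ⊤) (hT : IsPGroup p T) :
    ∃ b : G, conjSub b T ≤ P := by
  obtain ⟨T', hT', hTT'⟩ := exists_isSylowIn_ge (K := ⊤) le_top hT
  obtain ⟨k, -, hk⟩ := hT'.exists_conj hP
  refine ⟨k, ?_⟩
  rw [← hk]
  exact conjSub_mono k hTT'

theorem normalizer_inf_conjSub {P X : Subgroup G} {b : G} :
    conjSub b (P ⊓ Subgroup.normalizer (X : Set G)) ≤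
      conjSub b P ⊓ Subgroup.normalizer (conjSub b X : Set G) := by
  rintro _ ⟨x, ⟨hxP, hxN⟩, rfl⟩
  refine ⟨⟨x, hxP, rfl⟩, ?_⟩
  apply mem_normalizer_of_conjSub_eq
  have h2 := conjSub_eq_of_mem_normalizer hxN
  show conjSub (b * x * b⁻¹) (conjSub b X) = conjSub b X
  rw [← conjSub_mul, show b * x * b⁻¹ * b = b * x by group, conjSub_mul, h2]

/-- Every subgroup of a Sylow subgroup `P` of `G` has a conjugate in `P` which is fully normalized. -/
theorem exists_fully_normalized {P X : Subgroup G} (hP : IsSylowIn p P ⊤) (hXP : X ≤ P) :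
    ∃ a : G, conjSub a X ≤ P ∧
      IsSylowIn p (P ⊓ Subgroup.normalizer (conjSub a X : Set G)) (Subgroup.normalizer (conjSub a X : Set G)) := by
  classical
  let S := {a : G // conjSub a X ≤ P}
  haveI : Nonempty S := ⟨⟨1, by rwa [conjSub_one]⟩⟩
  obtain ⟨⟨a, ha⟩, hmax⟩ := Finite.exists_max
    (fun a : S => Nat.card ↥(P ⊓ Subgroup.normalizer (conjSub a.1 X : Set G)))
  refine ⟨a, ha, ?_⟩
  set R := conjSub a X with hR
  have hTp : IsPGroup p ↥(P ⊓ Subgroup.normalizer (R : Set G)) := hP.2.1.to_le inf_le_left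
  by_contra hs
  obtain ⟨T, hTN, hTT, hlt⟩ := exists_lt_of_not_isSylowIn inf_le_right hTp hs
  obtain ⟨b, hb⟩ := exists_conjSub_le hP hTT
  have hRT : R ≤ T := by
    refine le_trans ?_ hlt.le
    exact le_inf ha (Subgroup.le_normalizer)
  have hb2 : conjSub b R ≤ P := (conjSub_mono b hRT).trans hb
  have hb3 : conjSub (b * a) X ≤ P := by rwa [conjSub_mul]
  have h1 := hmax ⟨b * a, hb3⟩
  simp only at h1
  have h2 : conjSub b T ≤ P ⊓ Subgroup.normalizer (conjSub (b * a) X : Set G) := by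
    rw [conjSub_mul]
    refine le_inf hb ?_
    rintro _ ⟨x, hx, rfl⟩
    apply mem_normalizer_of_conjSub_eq
    have h2 := conjSub_eq_of_mem_normalizer (hTN hx)
    show conjSub (b * x * b⁻¹) (conjSub b R) = conjSub b R
    rw [← conjSub_mul, show b * x * b⁻¹ * b = b * x by group, conjSub_mul, h2]
  have h3 := Subgroup.card_le_of_le h2
  have h4 := card_lt_of_lt hlt
  rw [card_conjSub] at h3
  omega

theorem pRankLE_of_isSylowIn {S X : Subgroup G} {k : ℕ} (hS : IsSylowIn p S X) (h : PRankLE p k S) :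
    PRankLE p k X := by
  apply pRankLE_of_forall
  intro A hAX hAc hAe
  have hAp : IsPGroup p A := by
    intro a
    exact ⟨1, Subtype.ext (by simpa using hAe a a.2)⟩
  obtain ⟨A', hA', hAA'⟩ := exists_isSylowIn_ge hAX hAp
  obtain ⟨l, -, hl⟩ := hA'.exists_conj hS
  have hle : conjSub l A ≤ S := by
    rw [← hl]
    exact conjSub_mono l hAA'
  have h1 := card_le_of_pRankLE h hle ?_ ?_
  · rwa [card_conjSub] at h1
  · refine ⟨⟨?_⟩⟩
    rintro ⟨_, x, hx, rfl⟩ ⟨_, y, hy, rfl⟩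
    apply Subtype.ext
    show (MulAut.conj l) x * (MulAut.conj l) y = (MulAut.conj l) y * (MulAut.conj l) x
    rw [← map_mul, ← map_mul, Cfsg.Agent.Lib.QuadAct.Basic.comm_of_isMulCommutative hAc hx hy]
  · rintro _ ⟨x, hx, rfl⟩
    show ((MulAut.conj l) x) ^ p = 1
    rw [← map_pow, hAe x hx, map_one]

/-- `O_{p'}(X)` centralizes normal `p`-subgroups of `X`. -/
theorem mem_centralizer_of_mem_coreOf {R X : Subgroup G} (hRp : IsPGroup p R) (hRX : R ≤ X)
    (hXR : X ≤ Subgroup.normalizer (R : Set G)) {t : G} (ht : t ∈ coreOf p X) :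
    t ∈ Subgroup.centralizer (R : Set G) := by
  have hinf : R ⊓ coreOf p X = ⊥ := inf_eq_bot_of_isPGroup_of_coprime hRp (coreOf_coprime X)
  have htX : t ∈ X := coreOf_le X ht
  rw [Subgroup.mem_centralizer_iff]
  intro r hr
  have hr' : r ∈ R := hr
  have h1 : t * r⁻¹ * t⁻¹ ∈ R := (Subgroup.mem_normalizer_iff.mp (hXR htX) _).mp (R.inv_mem hr')
  have h2 : r * t * r⁻¹ ∈ coreOf p X :=
    (Subgroup.mem_normalizer_iff.mp (le_normalizer_coreOf hRX hr') _).mp ht
  have h3 : r * (t * r⁻¹ * t⁻¹) ∈ R := R.mul_mem hr' h1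
  have h4 : (r * t * r⁻¹) * t⁻¹ ∈ coreOf p X := Subgroup.mul_mem _ h2 (Subgroup.inv_mem _ ht)
  have h5 : r * (t * r⁻¹ * t⁻¹) = (r * t * r⁻¹) * t⁻¹ := by group
  have h6 : (r * t * r⁻¹) * t⁻¹ ∈ R ⊓ coreOf p X := ⟨h5 ▸ h3, h4⟩
  rw [hinf, Subgroup.mem_bot] at h6
  have h7 : r * t = (r * t * r⁻¹ * t⁻¹) * t * r := by group
  rw [h6, one_mul] at h7
  exact h7

/-- The control property. -/
def Ctrl (M X : Subgroup G) : Prop :=
  ∀ g : G, conjSub g X ≤ M → ∃ m ∈ M, ∃ c ∈ Subgroup.centralizer (X : Set G), g = m * c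

section Control

variable (hG : IsMinSimpleOddOrder G) (hlen : RankTwoLen G)
  (hab : ∀ E : Subgroup G, IsPGroup p E → IsMulCommutative E → ¬ PRankLE p 2 E → InUniqueMaximal E)

include hG hlen hab in
/-- Step 1 of the control argument: fully normalized subgroups. -/
theorem step_one {M P R : Subgroup G} (hM : IsCoatom M) (hP : IsSylowIn p P M) (hRP : R < P) (hR1 : R ≠ ⊥)
    (hfull : IsSylowIn p (P ⊓ Subgroup.normalizer (R : Set G)) (Subgroup.normalizer (R : Set G)))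
    (IH : Ctrl M (P ⊓ Subgroup.normalizer (R : Set G))) {n : G} (hn : n ∈ Subgroup.normalizer (R : Set G)) :
    ∃ m ∈ M, ∃ c ∈ Subgroup.centralizer (R : Set G), n = m * c := by
  set S := P ⊓ Subgroup.normalizer (R : Set G) with hS
  have hPp := hP.2.1
  have hRp : IsPGroup p R := hPp.to_le hRP.le
  have hSP : S ≤ P := inf_le_left
  have hSM : S ≤ M := hSP.trans hP.1
  have hNtop : Subgroup.normalizer (R : Set G) ≠ ⊤ := normalizer_ne_top' hG hRp hR1
  have huq : ∀ {X : Subgroup G}, InUniqueMaximal X → X ≤ M → ∀ H, IsCoatom H → X ≤ H → H = M := by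
    intro X hX hXM H hH hXH
    obtain ⟨L, -, hL⟩ := hX
    rw [hL H ⟨hH, hXH⟩, hL M ⟨hM, hXM⟩]
  by_cases hr : PRankLE p 2 S
  · -- the rank two case
    have hN2 : PRankLE p 2 (Subgroup.normalizer (R : Set G)) := pRankLE_of_isSylowIn hfull hr
    obtain ⟨S', hS'⟩ := exists_sylow_of_isSylowIn hfull
    have h1 := hlen p _ hNtop S' hN2
    have hle : S ≤ corePOf p (Subgroup.normalizer (R : Set G)) := by
      rw [← hS']
      exact Subgroup.map_mono h1
    obtain ⟨t, ht, h, ⟨hhN, hhS⟩, rfl⟩ := exists_factor_core hfull hn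
    rw [inf_eq_left.mpr hle] at hhS
    have htC : t ∈ Subgroup.centralizer (R : Set G) :=
      mem_centralizer_of_mem_coreOf hRp Subgroup.le_normalizer le_rfl ht
    have hRS : R ≤ S := le_inf hRP.le Subgroup.le_normalizer
    obtain ⟨m, hm, c, hc, rfl⟩ := IH h (by rw [conjSub_eq_of_mem_normalizer hhS]; exact hSM)
    have hcR : c ∈ Subgroup.centralizer (R : Set G) := centralizer_anti hRS hc
    have hmN : m ∈ Subgroup.normalizer (R : Set G) := by
      have := Subgroup.mul_mem _ hhN (Subgroup.inv_mem _ (centralizer_le_normalizer' R hcR))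
      rwa [mul_inv_cancel_right] at this
    refine ⟨m, hm, (m⁻¹ * t * m) * c,
      Subgroup.mul_mem _ (mem_centralizer_of_mem_normalizer hmN htC) hcR, by group⟩
  · -- the rank three case
    obtain ⟨E, hES, hEe, hE3⟩ := exists_of_not_pRankLE hr
    have hEu := hab E (hPp.to_le (hES.trans hSP)) hEe.1
      (not_pRankLE_of_le le_rfl hEe hE3)
    have hNM : Subgroup.normalizer (R : Set G) ≤ M :=
      le_of_inUnique (huq hEu (hES.trans hSM)) (hES.trans inf_le_right) hNtop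
    exact ⟨n, hNM hn, 1, Subgroup.one_mem _, (mul_one n).symm⟩

include hG hlen hab in
/-- Step 2 of the control argument: a conjugation onto a fully normalized subgroup. -/
theorem step_two {M P R X : Subgroup G} (hM : IsCoatom M) (hP : IsSylowIn p P M) (hXP : X < P) (hX1 : X ≠ ⊥)
    (hRP : R ≤ P) {a : G} (haX : conjSub a X = R)
    (hfull : IsSylowIn p (P ⊓ Subgroup.normalizer (R : Set G)) (Subgroup.normalizer (R : Set G)))
    (IH : ∀ Y : Subgroup G, IsPGroup p Y → Y ≠ ⊥ → Y ≤ M → Nat.card X < Nat.card Y → Ctrl M Y) :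
    ∃ m ∈ M, ∃ c ∈ Subgroup.centralizer (X : Set G), a = m * c := by
  have hPp := hP.2.1
  have hcardXR : Nat.card R = Nat.card X := by
    rw [← haX, card_conjSub]
  have hR1 : R ≠ ⊥ := by
    intro he
    rw [he] at hcardXR
    apply hX1
    rw [← Subgroup.card_eq_one, ← hcardXR]
    exact Subgroup.card_bot
  have hRlt : R < P := by
    refine lt_of_le_of_ne hRP ?_
    rintro rfl
    exact absurd (card_lt_of_lt hXP) (by omega)
  set T₁ := P ⊓ Subgroup.normalizer (X : Set G) with hT₁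
  have hXT₁ : X < T₁ := exists_mem_normalizer_of_lt hPp hXP
  have hT₁p : IsPGroup p T₁ := hPp.to_le inf_le_left
  have hT₁M : T₁ ≤ M := inf_le_left.trans hP.1
  have hT₁1 : T₁ ≠ ⊥ := by
    rintro h
    rw [h] at hXT₁
    exact not_lt_bot hXT₁
  -- conjugate `a T₁ a⁻¹` into `N_P(R)`
  have h1 : conjSub a T₁ ≤ Subgroup.normalizer (R : Set G) := by
    rw [← haX]
    rintro _ ⟨x, hx, rfl⟩
    apply mem_normalizer_of_conjSub_eq
    have h2 := conjSub_eq_of_mem_normalizer hx.2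
    show conjSub (a * x * a⁻¹) (conjSub a X) = conjSub a X
    rw [← conjSub_mul, show a * x * a⁻¹ * a = a * x by group, conjSub_mul, h2]
  have h1p : IsPGroup p (conjSub a T₁) := hT₁p.map _
  obtain ⟨T₂, hT₂, hT₂'⟩ := exists_isSylowIn_ge h1 h1p
  obtain ⟨h, hh, hh'⟩ := hT₂.exists_conj hfull
  have h2 : conjSub (h * a) T₁ ≤ M := by
    rw [conjSub_mul]
    refine (conjSub_mono h hT₂').trans ?_
    rw [← conj_smul_eq_conjSub, hh']
    exact inf_le_left.trans hP.1
  obtain ⟨m, hm, c, hc, hma⟩ := IH T₁ hT₁p hT₁1 hT₁M (card_lt_of_lt hXT₁) _ h2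
  have hcX : c ∈ Subgroup.centralizer (X : Set G) := centralizer_anti hXT₁.le hc
  have hmX : conjSub m X = R := by
    have hm' : m = h * a * c⁻¹ := by rw [hma]; group
    rw [hm', conjSub_mul, conjSub_mul,
      conjSub_eq_of_mem_centralizer (Subgroup.inv_mem _ hcX), haX, conjSub_eq_of_mem_normalizer hh]
  -- the first step for `h⁻¹`
  have hIH₂ : Ctrl M (P ⊓ Subgroup.normalizer (R : Set G)) := by
    apply IH _ (hPp.to_le inf_le_left) _ (inf_le_left.trans hP.1)
    · have := exists_mem_normalizer_of_lt hPp hRlt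
      have h3 := card_lt_of_lt this
      omega
    · intro he
      have := exists_mem_normalizer_of_lt hPp hRlt
      rw [he] at this
      exact not_lt_bot this
  obtain ⟨m₁, hm₁, c₁, hc₁, hh₁⟩ := step_one hG hlen hab hM hP hRlt hR1 hfull hIH₂
    (Subgroup.inv_mem _ hh)
  have hc₂ : m⁻¹ * c₁ * m ∈ Subgroup.centralizer (X : Set G) :=
    mem_centralizer_conjSub (by rwa [hmX])
  refine ⟨m₁ * m, M.mul_mem hm₁ hm, (m⁻¹ * c₁ * m) * c, Subgroup.mul_mem _ hc₂ hcX, ?_⟩
  have h3 : a = h⁻¹ * (m * c) := by rw [← hma]; group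
  rw [h3, hh₁]
  group

include hG hlen hab in
/-- **Control of fusion** for `p ∈ σ(M)` (the first part of S1404). -/
theorem ctrl_aux {M : Subgroup G} (hM : IsCoatom M) (hpM : p ∈ sigma M) :
    ∀ (n : ℕ) (X : Subgroup G), Nat.card G - Nat.card X = n → IsPGroup p X → X ≠ ⊥ → X ≤ M → Ctrl M X := by
  intro n
  induction n using Nat.strong_induction_on with
  | _ n ih =>
  intro X hn hXp hX1 hXM
  have IH : ∀ Y : Subgroup G, IsPGroup p Y → Y ≠ ⊥ → Y ≤ M → Nat.card X < Nat.card Y → Ctrl M Y := by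
    intro Y hYp hY1 hYM hlt
    have hYG : Nat.card Y ≤ Nat.card G := Subgroup.card_le_card_group Y
    exact ih (Nat.card G - Nat.card Y) (by omega) Y rfl hYp hY1 hYM
  intro g hg
  obtain ⟨P, hP, hXP⟩ := exists_isSylowIn_ge hXM hXp
  by_cases hXeq : X = P
  · subst hXeq
    -- the Sylow case
    have hgS : IsSylowIn p (conjSub g X) M := by
      refine ⟨hg, hXp.map _, ?_⟩
      rw [relIndex_eq_of_card_eq hg hP.1 (card_conjSub g X)]
      exact hP.2.2
    obtain ⟨k, hk, hk'⟩ := hgS.exists_conj hP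
    have h1 : k * g ∈ Subgroup.normalizer (X : Set G) := by
      apply mem_normalizer_of_conjSub_eq
      rw [conjSub_mul]
      exact hk'
    have h2 := normalizer_le_of_mem_sigma hpM hP h1
    refine ⟨g, ?_, 1, Subgroup.one_mem _, (mul_one g).symm⟩
    have h3 := M.mul_mem (M.inv_mem hk) h2
    rwa [inv_mul_cancel_left] at h3
  have hXlt : X < P := lt_of_le_of_ne hXP hXeq
  have hPG : IsSylowIn p P ⊤ := isSylowIn_top_of_mem_sigma hpM hP
  -- move `gXg⁻¹` into `P`
  obtain ⟨P₂, hP₂, hgP₂⟩ := exists_isSylowIn_ge hg (hXp.map _)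
  obtain ⟨u, hu, hu'⟩ := hP₂.exists_conj hP
  set g₃ := u * g with hg₃
  set X₃ := conjSub g₃ X with hX₃
  have hX₃P : X₃ ≤ P := by
    rw [hX₃, hg₃, conjSub_mul, ← hu']
    exact conjSub_mono u hgP₂
  have hcard₃ : Nat.card X₃ = Nat.card X := card_conjSub _ _
  have hX₃lt : X₃ < P := by
    refine lt_of_le_of_ne hX₃P ?_
    intro he
    rw [he] at hcard₃
    exact absurd (card_lt_of_lt hXlt) (by omega)
  have hX₃1 : X₃ ≠ ⊥ := by
    intro he
    rw [he] at hcard₃
    apply hX1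
    rw [← Subgroup.card_eq_one, ← hcard₃]
    exact Subgroup.card_bot
  obtain ⟨a, haP, hfull⟩ := exists_fully_normalized hPG hXP
  obtain ⟨ma, hma, ca, hca, hae⟩ := step_two hG hlen hab hM hP hXlt hX1 haP rfl hfull IH
  have ha₃ : conjSub (a * g₃⁻¹) X₃ = conjSub a X := by
    rw [hX₃, conjSub_mul, conjSub_inv_conjSub]
  obtain ⟨m₃, hm₃, c₃, hc₃, ha₃e⟩ := step_two hG hlen hab hM hP hX₃lt hX₃1 haP ha₃ hfull
    (fun Y h1 h2 h3 h4 => IH Y h1 h2 h3 (by omega))
  have hd : g₃⁻¹ * c₃ * g₃ ∈ Subgroup.centralizer (X : Set G) := mem_centralizer_conjSub hc₃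
  refine ⟨u⁻¹ * (m₃⁻¹ * ma), M.mul_mem (M.inv_mem hu) (M.mul_mem (M.inv_mem hm₃) hma),
    ca * (g₃⁻¹ * c₃ * g₃)⁻¹, Subgroup.mul_mem _ hca (Subgroup.inv_mem _ hd), ?_⟩
  have h5 : g₃ = c₃⁻¹ * m₃⁻¹ * a := by
    have : a = m₃ * c₃ * g₃ := by rw [← ha₃e]; group
    rw [this]
    group
  have h6 : g = u⁻¹ * g₃ := by rw [hg₃]; group
  have h7 : g₃ * (g₃⁻¹ * c₃ * g₃)⁻¹ = c₃⁻¹ * g₃ := by group
  have h8 : g₃ = m₃⁻¹ * ma * (ca * (g₃⁻¹ * c₃ * g₃)⁻¹) := by
    have h9 : g₃ * (g₃⁻¹ * c₃ * g₃)⁻¹⁻¹ = m₃⁻¹ * ma * ca := by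
      calc g₃ * (g₃⁻¹ * c₃ * g₃)⁻¹⁻¹ = c₃ * g₃ := by group
        _ = c₃ * (c₃⁻¹ * m₃⁻¹ * a) := by rw [← h5]
        _ = m₃⁻¹ * a := by group
        _ = m₃⁻¹ * ma * ca := by rw [hae]; group
    calc g₃ = g₃ * (g₃⁻¹ * c₃ * g₃)⁻¹⁻¹ * (g₃⁻¹ * c₃ * g₃)⁻¹ := by group
      _ = m₃⁻¹ * ma * ca * (g₃⁻¹ * c₃ * g₃)⁻¹ := by rw [h9]
      _ = _ := by group
  rw [h6]
  nth_rewrite 1 [h8]
  group

include hG hlen hab in
/-- **Control of fusion** for `p ∈ σ(M)`. -/
theorem ctrl {M X : Subgroup G} (hM : IsCoatom M) (hpM : p ∈ sigma M) (hXp : IsPGroup p X) (hX1 : X ≠ ⊥)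
    (hXM : X ≤ M) : Ctrl M X :=
  ctrl_aux hG hlen hab hM hpM _ X rfl hXp hX1 hXM

end Control

end Cfsg.Agent.Lib.OddOrder.UniqCtrl
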